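import Groth.Agent.EtaleBase.LocConstOps
import Groth.Agent.EtaleBase.DisjointGlue
import Groth.Agent.EtaleBase.DivisorClass
import Groth.Agent.EtaleBase.SuppSections

/-!
# Restriction of constant sheaves to an open subscheme and clopen subsets
-/

set_option autoImplicit false
set_option backward.isDefEq.respectTransparency.types false
set_option maxHeartbeats 1000000

universe u

open CategoryTheory CategoryTheory.Limits AlgebraicGeometry Opposite

namespace Groth.EtDepthLib

open Groth.EtaleBase Groth.EtaleBase.LocConst Groth.EtaleBase.Supp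

variable {X : Scheme.{u}} (M : Type) [AddCommGroup M]

/-- The constant section with value `a`. -/
noncomputable def cst (V : X.Etale) : ULift.{u + 1} M →+ (EtCoh.const X M).obj.obj (op V) :=
  ((CategoryTheory.toSheafify X.smallEtaleTopology
    ((Functor.const X.Etaleᵒᵖ).obj (AddCommGrpCat.of (ULift.{u + 1} M)))).app (op V)).hom

theorem cst_stalkBij (V : X.Etale) : StalkBij (EtCoh.const X M) V (cst M V) :=
  exists_stalkBij_const V _

theorem cst_res {W V : X.Etale} (k : W ⟶ V) (a : ULift.{u + 1} M) :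
    (EtCoh.const X M).obj.map k.op (cst M V a) = cst M W a :=
  (NatTrans.naturality_apply (CategoryTheory.toSheafify X.smallEtaleTopology
    ((Functor.const X.Etaleᵒᵖ).obj (AddCommGrpCat.of (ULift.{u + 1} M)))) k.op a).symm

theorem cst_injective {V : X.Etale} (v : V.left) : Function.Injective (cst M V) :=
  (cst_stalkBij M V).injective_of_nonempty v

variable {M}

/-- Points near which a section is constant with value `a`. -/
def valSet {V : X.Etale} (σ : (EtCoh.const X M).obj.obj (op V)) (a : ULift.{u + 1} M) : Set V.left :=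
  {x | ∃ (W : X.Etale) (k : W ⟶ V), (∃ w, k.left.base w = x) ∧
    (EtCoh.const X M).obj.map k.op σ = cst M W a}

theorem valSet_isOpen {V : X.Etale} (σ : (EtCoh.const X M).obj.obj (op V)) (a : ULift.{u + 1} M) :
    IsOpen (valSet σ a) := by
  refine isOpen_iff_forall_mem_open.2 fun x ⟨W, k, ⟨w, hw⟩, h⟩ => ?_
  refine ⟨Set.range k.left.base, ?_, ?_, ⟨w, hw⟩⟩
  · rintro _ ⟨w', rfl⟩
    exact ⟨W, k, ⟨w', rfl⟩, h⟩
  · exact (isOpenMap_left k).isOpen_range

theorem valSet_cover {V : X.Etale} (σ : (EtCoh.const X M).obj.obj (op V)) (x : V.left) :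
    ∃ a, x ∈ valSet σ a := by
  obtain ⟨W, k, a, hw, h⟩ := (cst_stalkBij M V).exists_nhd (𝟙 V) σ x
  exact ⟨a, W, k, hw, h.trans (by rw [Category.comp_id]; exact cst_res M k a)⟩

theorem valSet_unique {V : X.Etale} (σ : (EtCoh.const X M).obj.obj (op V)) {x : V.left}
    {a b : ULift.{u + 1} M} (ha : x ∈ valSet σ a) (hb : x ∈ valSet σ b) : a = b := by
  obtain ⟨W₁, k₁, ⟨w₁, hw₁⟩, h₁⟩ := ha
  obtain ⟨W₂, k₂, ⟨w₂, hw₂⟩, h₂⟩ := hb
  obtain ⟨t, ht⟩ := exists_geomPoint_lift V x
  obtain ⟨t₁, ht₁, -⟩ := exists_fiber_lift (geomPoint (V.hom.base x)) k₁ t w₁ (hw₁.trans ht.symm)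
  obtain ⟨t₂, ht₂, -⟩ := exists_fiber_lift (geomPoint (V.hom.base x)) k₂ t w₂ (hw₂.trans ht.symm)
  let G := EtCoh.const X M
  let ξ := geomPoint (V.hom.base x)
  have e₁ : germ ξ G W₁ t₁ (cst M W₁ a) = germ ξ G V t σ := by
    rw [← h₁, germ_res, ht₁]
  have e₂ : germ ξ G W₂ t₂ (cst M W₂ b) = germ ξ G V t σ := by
    rw [← h₂, germ_res, ht₂]
  refine (cst_stalkBij M V _ _ _ ξ t).1 ?_
  show germ ξ G V t (cst M V a) = germ ξ G V t (cst M V b)
  have f₁ : germ ξ G W₁ t₁ (cst M W₁ a) = germ ξ G V t (cst M V a) := by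
    rw [← cst_res M k₁ a, germ_res, ht₁]
  have f₂ : germ ξ G W₂ t₂ (cst M W₂ b) = germ ξ G V t (cst M V b) := by
    rw [← cst_res M k₂ b, germ_res, ht₂]
  rw [← f₁, e₁, ← f₂, e₂]

theorem valSet_isClopen {V : X.Etale} (σ : (EtCoh.const X M).obj.obj (op V)) (a : ULift.{u + 1} M) :
    IsClopen (valSet σ a) := by
  refine ⟨⟨isOpen_iff_forall_mem_open.2 fun x hx => ?_⟩, valSet_isOpen σ a⟩
  obtain ⟨b, hb⟩ := valSet_cover σ x
  exact ⟨valSet σ b, fun y hy hy' => hx ((valSet_unique σ hy hy') ▸ hb), valSet_isOpen σ b, hb⟩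

theorem mem_valSet_res {W V : X.Etale} (k : W ⟶ V) (σ : (EtCoh.const X M).obj.obj (op V))
    (a : ULift.{u + 1} M) (w : W.left) (h : k.left.base w ∈ valSet σ a) :
    w ∈ valSet ((EtCoh.const X M).obj.map k.op σ) a := by
  obtain ⟨b, hb⟩ := valSet_cover ((EtCoh.const X M).obj.map k.op σ) w
  obtain ⟨W', l, hl, he⟩ := id hb
  obtain ⟨w', hw'⟩ := hl
  have : k.left.base w ∈ valSet σ b := ⟨W', l ≫ k, ⟨w', by
    rw [← hw']; rfl⟩, by rw [op_comp, Functor.map_comp_apply]; exact he⟩
  exact (valSet_unique σ h this).symm ▸ hb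

/-- Sections are determined by their values. -/
theorem ext_valSet {V : X.Etale} (σ τ : (EtCoh.const X M).obj.obj (op V))
    (h : ∀ (x : V.left) (a : ULift.{u + 1} M), x ∈ valSet σ a → x ∈ valSet τ a) : σ = τ := by
  refine sub_eq_zero.1 (DivisorClass.eq_zero_of_local V (σ - τ) fun x => ?_)
  obtain ⟨a, ha⟩ := valSet_cover σ x
  have hb := h x a ha
  obtain ⟨W₁, k₁, ⟨w₁, hw₁⟩, h₁⟩ := ha
  obtain ⟨W₂, k₂, ⟨w₂, hw₂⟩, h₂⟩ := hb
  obtain ⟨t, ht⟩ := exists_geomPoint_lift V x
  obtain ⟨t₁, ht₁, -⟩ := exists_fiber_lift (geomPoint (V.hom.base x)) k₁ t w₁ (hw₁.trans ht.symm)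
  obtain ⟨t₂, ht₂, -⟩ := exists_fiber_lift (geomPoint (V.hom.base x)) k₂ t w₂ (hw₂.trans ht.symm)
  let G := EtCoh.const X M
  let ξ := geomPoint (V.hom.base x)
  have e : germ ξ G V t σ = germ ξ G V t τ := by
    have a₁ : germ ξ G W₁ t₁ (G.obj.map k₁.op σ) = germ ξ G V t σ := by rw [germ_res, ht₁]
    have a₂ : germ ξ G W₂ t₂ (G.obj.map k₂.op τ) = germ ξ G V t τ := by rw [germ_res, ht₂]
    have b₁ : germ ξ G W₁ t₁ (cst M W₁ a) = germ ξ G V t (cst M V a) := by
      rw [← cst_res M k₁ a, germ_res, ht₁]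
    have b₂ : germ ξ G W₂ t₂ (cst M W₂ a) = germ ξ G V t (cst M V a) := by
      rw [← cst_res M k₂ a, germ_res, ht₂]
    rw [← a₁, h₁, b₁, ← a₂, h₂, b₂]
  obtain ⟨W, g, w, hw, he⟩ := (germ_eq_iff ξ G V t σ τ).1 e
  refine ⟨W, g, fiberPoint ξ w, ?_, ?_⟩
  · exact (fiberPoint_map ξ g w).symm.trans ((congrArg (fiberPoint ξ) hw).trans ht)
  · rw [map_sub, he, sub_self]

/-- A section with prescribed values on a finite clopen partition. -/
theorem exists_section_of_partition [Finite M] (V : X.Etale) (C : ULift.{u + 1} M → Set V.left)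
    (hC : ∀ a, IsOpen (C a)) (hdisj : ∀ a b, a ≠ b → Disjoint (C a) (C b)) (hcov : ∀ x, ∃ a, x ∈ C a) :
    ∃ σ : (EtCoh.const X M).obj.obj (op V), ∀ a x, x ∈ C a → x ∈ valSet σ a := by
  obtain ⟨m, ⟨e⟩⟩ := Finite.exists_equiv_fin (ULift.{u + 1} M)
  let W : ULift.{u} (Fin m) → V.left.Opens := fun i => ⟨C (e.symm i.down), hC _⟩
  have hW : ∀ a b, a ≠ b → Disjoint (W a) (W b) := fun a b hab => by
    rw [← TopologicalSpace.Opens.coe_disjoint]
    exact hdisj _ _ fun h => hab (ULift.ext _ _ (e.symm.injective h))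
  have hsup : ⨆ a, W a = ⊤ := by
    refine top_unique fun x _ => TopologicalSpace.Opens.mem_iSup.mpr ?_
    obtain ⟨a, ha⟩ := hcov x
    exact ⟨⟨e a⟩, show x ∈ C (e.symm (e a)) by rwa [Equiv.symm_apply_apply]⟩
  obtain ⟨σ, hσ⟩ := exists_glue_disjoint V W hW hsup (EtCoh.const X M)
    fun i => cst M (openObj V (W i)) (e.symm i.down)
  refine ⟨σ, fun a x hx => ⟨openObj V (W ⟨e a⟩), openHom V (W ⟨e a⟩), ?_, ?_⟩⟩
  · exact ⟨⟨x, show x ∈ C (e.symm (e a)) by rwa [Equiv.symm_apply_apply]⟩, rfl⟩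
  · rw [hσ, Equiv.symm_apply_apply]

variable {U : Scheme.{u}} (j : U ⟶ X)

/-- Clopens containing the preimage of the open are everything. -/
def ClopenInj : Prop :=
  ∀ (V : X.Etale) (C : Set V.left), IsClopen C → V.hom.base ⁻¹' Set.range j.base ⊆ C → C = Set.univ

/-- Clopens of the preimage of the open extend. -/
def ClopenSurj : Prop :=
  ∀ (V : X.Etale) (C₀ : Set ↥(pullback V.hom j)), IsClopen C₀ →
    ∃ C : Set V.left, IsClopen C ∧ (pullback.fst V.hom j).base ⁻¹' C = C₀

variable [IsOpenImmersion j]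

attribute [local instance] InjCoh.jCont

theorem range_fst (V : X.Etale) :
    Set.range (pullback.fst V.hom j).base = V.hom.base ⁻¹' Set.range j.base :=
  Scheme.Pullback.range_fst V.hom j

variable (M) in
/-- Restriction of sections to the open is injective when clopens are detected. -/
theorem injective_of_clopenInj (h : ClopenInj j) (V : X.Etale) :
    Function.Injective ((EtCoh.const X M).obj.map (cu j V).op) := by
  intro σ τ e
  refine ext_valSet σ τ fun x a hx => ?_
  let C : Set V.left := (valSet σ a ∩ valSet τ a) ∪ ((valSet σ a)ᶜ)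
  have hC : C = Set.univ := by
    refine h V C (((valSet_isClopen σ a).inter (valSet_isClopen τ a)).union (valSet_isClopen σ a).compl) ?_
    intro y hy
    rw [← range_fst] at hy
    obtain ⟨z, rfl⟩ := hy
    by_cases hz : (pullback.fst V.hom j).base z ∈ valSet σ a
    · refine Or.inl ⟨hz, ?_⟩
      have h1 : z ∈ valSet ((EtCoh.const X M).obj.map (cu j V).op τ) a :=
        e ▸ mem_valSet_res (cu j V) σ a z hz
      obtain ⟨b, hb⟩ := valSet_cover τ ((pullback.fst V.hom j).base z)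
      exact (valSet_unique _ h1 (mem_valSet_res (cu j V) τ b z hb)).symm ▸ hb
    · exact Or.inr hz
  rcases (hC.symm ▸ Set.mem_univ x : x ∈ C) with h1 | h1
  · exact h1.2
  · exact absurd hx h1

variable (M) in
/-- Restriction of sections to the open is bijective when clopens correspond. -/
theorem bijective_of_clopens [Finite M] (h₁ : ClopenInj j) (h₂ : ClopenSurj j) (V : X.Etale) :
    Function.Bijective ((EtCoh.const X M).obj.map (cu j V).op) := by
  refine ⟨injective_of_clopenInj M j h₁ V, fun σ' => ?_⟩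
  let p := (pullback.fst V.hom j).base
  choose C hC hCp using fun a => h₂ V (valSet σ' a) (valSet_isClopen σ' a)
  have hdisj : ∀ a b, a ≠ b → Disjoint (C a) (C b) := fun a b hab => by
    rw [Set.disjoint_iff_inter_eq_empty, ← Set.compl_univ_iff]
    refine h₁ V _ ((hC a).inter (hC b)).compl ?_
    intro y hy hy'
    rw [← range_fst] at hy
    obtain ⟨z, rfl⟩ := hy
    have ha : z ∈ p ⁻¹' C a := hy'.1
    have hb : z ∈ p ⁻¹' C b := hy'.2
    rw [hCp] at ha hb
    exact hab (valSet_unique σ' ha hb)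
  have hcov : ∀ x, ∃ a, x ∈ C a := fun x => by
    have hopen : IsOpen (⋃ a, C a) := isOpen_iUnion fun a => (hC a).isOpen
    have hclosed : IsClosed (⋃ a, C a) := isClosed_iUnion_of_finite fun a => (hC a).isClosed
    have := h₁ V _ ⟨hclosed, hopen⟩ (fun y hy => by
      rw [← range_fst] at hy
      obtain ⟨z, rfl⟩ := hy
      obtain ⟨a, ha⟩ := valSet_cover σ' z
      rw [← hCp] at ha
      exact Set.mem_iUnion.2 ⟨a, ha⟩)
    exact Set.mem_iUnion.1 (this.symm ▸ Set.mem_univ x)
  obtain ⟨σ, hσ⟩ := exists_section_of_partition V C (fun a => (hC a).isOpen) hdisj hcov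
  refine ⟨σ, (ext_valSet σ' _ fun z a hz => ?_).symm⟩
  rw [← hCp] at hz
  exact mem_valSet_res (cu j V) σ a z (hσ a _ hz)

/-- Injective restriction of sections detects clopens. -/
theorem clopenInj_of_injective [Finite M] [Nontrivial M]
    (h : ∀ V : X.Etale, Function.Injective ((EtCoh.const X M).obj.map (cu j V).op)) : ClopenInj j := by
  intro V C hC hsub
  classical
  obtain ⟨b, hb⟩ := exists_ne (0 : ULift.{u + 1} M)
  let P : ULift.{u + 1} M → Set V.left := fun a => if a = 0 then C else if a = b then Cᶜ else ∅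
  have hP : ∀ a, IsOpen (P a) := fun a => by
    dsimp only [P]
    split_ifs
    exacts [hC.isOpen, hC.compl.isOpen, isOpen_empty]
  have hdisj : ∀ a c, a ≠ c → Disjoint (P a) (P c) := fun a c hac => by
    dsimp only [P]
    split_ifs <;> first | exact disjoint_compl_left | exact disjoint_compl_right | exact disjoint_bot_left | exact disjoint_bot_right | simp_all
  have hcov : ∀ x, ∃ a, x ∈ P a := fun x => by
    by_cases hx : x ∈ C
    · exact ⟨0, by simpa [P] using hx⟩
    · exact ⟨b, by simpa [P, hb] using hx⟩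
  obtain ⟨σ, hσ⟩ := exists_section_of_partition V P hP hdisj hcov
  have h0 : ∀ z, (pullback.fst V.hom j).base z ∈ valSet σ 0 := fun z => hσ 0 _ (by
    simpa [P] using hsub (range_fst j V ▸ ⟨z, rfl⟩))
  have hσ0 : σ = 0 := by
    refine h V ?_
    rw [map_zero]
    refine ext_valSet _ _ fun z a ha => ?_
    rw [valSet_unique _ ha (mem_valSet_res (cu j V) σ 0 z (h0 z))]
    exact ⟨_, 𝟙 _, ⟨z, rfl⟩, by rw [map_zero, map_zero]⟩
  refine Set.eq_univ_iff_forall.2 fun x => by_contra fun hx => hb ?_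
  have h1 : x ∈ valSet σ b := hσ b x (by simpa [P, hb] using hx)
  have h2 : x ∈ valSet σ 0 := ⟨V, 𝟙 V, ⟨x, rfl⟩, by rw [hσ0, map_zero, map_zero]⟩
  exact valSet_unique σ h1 h2

/-- Bijective restriction of sections extends clopens. -/
theorem clopenSurj_of_surjective [Finite M] [Nontrivial M]
    (h : ∀ V : X.Etale, Function.Surjective ((EtCoh.const X M).obj.map (cu j V).op)) : ClopenSurj j := by
  intro V C₀ hC₀
  classical
  obtain ⟨b, hb⟩ := exists_ne (0 : ULift.{u + 1} M)
  let Z := (EtShriek.compEtale j).obj ((EtCoh.bc j).obj V)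
  let P : ULift.{u + 1} M → Set Z.left := fun a => if a = b then C₀ else if a = 0 then C₀ᶜ else ∅
  have hP : ∀ a, IsOpen (P a) := fun a => by
    dsimp only [P]
    split_ifs
    exacts [hC₀.isOpen, hC₀.compl.isOpen, isOpen_empty]
  have hdisj : ∀ a c, a ≠ c → Disjoint (P a) (P c) := fun a c hac => by
    dsimp only [P]
    split_ifs <;> first | exact disjoint_compl_left | exact disjoint_compl_right | exact disjoint_bot_left | exact disjoint_bot_right | simp_all
  have hPb : P b = C₀ := if_pos rfl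
  have hP0 : P 0 = (C₀ᶜ : Set Z.left) := (if_neg (Ne.symm hb)).trans (if_pos rfl)
  have hcov : ∀ x, ∃ a, x ∈ P a := fun x => by
    by_cases hx : x ∈ (C₀ : Set Z.left)
    · exact ⟨b, hPb.symm ▸ hx⟩
    · exact ⟨0, hP0.symm ▸ hx⟩
  obtain ⟨σ', hσ'⟩ := exists_section_of_partition Z P hP hdisj hcov
  obtain ⟨σ, hσ⟩ := h V σ'
  refine ⟨valSet σ b, valSet_isClopen σ b, ?_⟩
  ext z
  obtain ⟨c, hc⟩ := valSet_cover σ ((pullback.fst V.hom j).base z)
  have hc' : z ∈ valSet σ' c := hσ ▸ mem_valSet_res (cu j V) σ c z hc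
  constructor
  · intro hz
    obtain rfl : b = c := valSet_unique σ hz hc
    by_contra hz0
    exact hb (valSet_unique σ' hc' (hσ' 0 z (hP0.symm ▸ hz0)))
  · intro hz
    obtain rfl : b = c := valSet_unique σ' (hσ' b z (hPb.symm ▸ hz)) hc'
    exact hc

end Groth.EtDepthLib
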