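import Groth.Agent.EtCd.AcycCriterion
import Groth.Agent.EtaleBase.DivisorPurity
import Groth.Prelude.Def_EtDepth

/-!
# Étale depth and restriction maps on cohomology
-/

set_option autoImplicit false
set_option synthInstance.maxHeartbeats 400000
set_option backward.isDefEq.respectTransparency.types false
set_option maxHeartbeats 1000000

universe u

open CategoryTheory CategoryTheory.Limits CategoryTheory.Abelian AlgebraicGeometry Opposite
open Groth.EtaleBase

namespace Groth.EtDepthLib

section LocCoh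

open Groth.EtaleBase.Supp Groth.EtaleBase.LocConst

variable {X U : Scheme.{u}} (j : U ⟶ X) [IsOpenImmersion j] (F : EtCoh.Ab X)

attribute [local instance] InjCoh.jCont

/-- Supported sections vanish when the zeroth local cohomology sheaf does. -/
theorem eq_zero_of_isZero_locCoh_zero (h : IsZero ((EtDual.locCoh j 0).obj F)) (V : X.Etale)
    (s : F.obj.obj (op V)) (hs : IsSupp j F s) : s = 0 := by
  let I : InjectiveResolution F := injectiveResolution F
  rw [isZero_locCoh_iff j I 0, exact_secSupp_iff] at h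
  let K := I.cocomplex
  let f₀ : F ⟶ K.X 0 := I.ι.f 0
  haveI : Mono f₀ := inferInstanceAs (Mono (I.ι.f 0))
  have hf₀ : f₀ ≫ K.d 0 1 = 0 := I.ι_f_zero_comp_complex_d
  have e1 : (ComplexShape.up ℕ).next 0 = 1 := CochainComplex.next ℕ 0
  have hsupp : IsSupp j (K.X 0) (f₀.hom.app (op V) s) :=
    (NatTrans.naturality_apply f₀.hom (cu j V).op s).symm.trans ((congrArg _ hs).trans (map_zero _))
  have hg : (K.d 0 ((ComplexShape.up ℕ).next 0)).hom.app (op V) (f₀.hom.app (op V) s) = 0 := by
    have h1 : f₀ ≫ K.d 0 ((ComplexShape.up ℕ).next 0) = 0 := by rw [e1]; exact hf₀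
    exact ConcreteCategory.congr_hom (congrArg (fun m : F ⟶ K.X ((ComplexShape.up ℕ).next 0) => m.hom.app (op V)) h1) s
  refine mono_sections_injective f₀ V (Eq.trans ?_ (map_zero _).symm)
  refine DivisorClass.eq_zero_of_local V _ fun v => ?_
  obtain ⟨Z, g, ⟨z, hz⟩, b, -, hfb⟩ := h V _ hsupp hg v
  refine ⟨Z, g, z, hz, hfb.symm.trans ?_⟩
  have h0 : K.d ((ComplexShape.up ℕ).prev 0) 0 = 0 := by
    refine K.shape _ _ ?_
    rw [CochainComplex.prev_nat_zero]
    simp [ComplexShape.up]
  exact ConcreteCategory.congr_hom (congrArg (fun m : K.X ((ComplexShape.up ℕ).prev 0) ⟶ K.X 0 => m.hom.app (op Z)) h0) b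

/-- The zeroth local cohomology sheaf vanishes exactly when the unit is a monomorphism. -/
theorem isZero_locCoh_zero_iff :
    IsZero ((EtDual.locCoh j 0).obj F) ↔ Mono (EtDual.unitApp j F) := by
  constructor
  · intro h
    haveI : ∀ W : X.Etaleᵒᵖ, Mono ((EtDual.unitApp j F).hom.app W) := fun W => by
      obtain ⟨W⟩ := W
      refine ConcreteCategory.mono_of_injective _
        ((injective_iff_map_eq_zero _).2 fun s hs => ?_)
      exact eq_zero_of_isZero_locCoh_zero j F h W s ((unitApp_app_eq_zero_iff j F s).1 hs)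
    haveI : Mono ((sheafToPresheaf X.smallEtaleTopology AddCommGrpCat.{u + 1}).map (EtDual.unitApp j F)) :=
      NatTrans.mono_of_mono_app (EtDual.unitApp j F).hom
    exact (sheafToPresheaf X.smallEtaleTopology AddCommGrpCat.{u + 1}).mono_of_mono_map ‹_›
  · intro h
    refine DivisorClass.isZero_locCoh_zero_of j F fun V s hs => ?_
    refine mono_sections_injective (EtDual.unitApp j F) V ?_
    rw [(unitApp_app_eq_zero_iff j F s).2 hs, map_zero]

/-- The first local cohomology sheaf vanishes exactly when the unit is an epimorphism. -/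
theorem isZero_locCoh_one_iff :
    IsZero ((EtDual.locCoh j 1).obj F) ↔ Epi (EtDual.unitApp j F) := by
  obtain ⟨e⟩ := Supp.nonempty_cokernel_iso_locCoh j F
  refine e.isZero_iff.symm.trans ⟨fun h => Preadditive.epi_of_isZero_cokernel _ h, fun h => ?_⟩
  exact isZero_cokernel_of_epi _

/-- Depth in terms of the unit and the higher direct images. -/
theorem depthGE_iff [EtCoh.BCCont j] (n : ℕ) : EtDepth.DepthGE j F n ↔
    (1 ≤ n → Mono ((EtCoh.pullPushAdj j).unit.app F)) ∧
      (2 ≤ n → IsIso ((EtCoh.pullPushAdj j).unit.app F)) ∧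
      ∀ q : ℕ, 1 ≤ q → q + 2 ≤ n → IsZero ((EtCoh.Rpush j q).obj ((EtCoh.pull j).obj F)) := by
  constructor
  · intro h
    refine ⟨fun hn => (isZero_locCoh_zero_iff j F).1 (h 0 hn), fun hn => ?_, fun q hq hqn => ?_⟩
    · haveI : Mono ((EtCoh.pullPushAdj j).unit.app F) := (isZero_locCoh_zero_iff j F).1 (h 0 (by omega))
      haveI : Epi ((EtCoh.pullPushAdj j).unit.app F) := (isZero_locCoh_one_iff j F).1 (h 1 (by omega))
      exact isIso_of_mono_of_epi _
    · obtain ⟨e⟩ := Supp.nonempty_rpush_iso_locCoh j F q hq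
      exact (h (q + 1) (by omega)).of_iso e
  · rintro ⟨h0, h1, h2⟩ p hp
    rcases p with _ | _ | q
    · exact (isZero_locCoh_zero_iff j F).2 (h0 hp)
    · refine (isZero_locCoh_one_iff j F).2 ?_
      haveI := h1 hp
      exact inferInstanceAs (Epi ((EtCoh.pullPushAdj j).unit.app F))
    · obtain ⟨e⟩ := Supp.nonempty_rpush_iso_locCoh j F (q + 1) (by omega)
      exact (h2 (q + 1) (by omega) (by omega)).of_iso e.symm

end LocCoh

section Restriction

open Groth.EtCdCriterion

variable {P V : Scheme.{u}} (f : P ⟶ V) (F : EtCoh.Ab V)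

theorem Hpull_eq_comp [PreservesFiniteLimits (EtCoh.pull f)] (q : ℕ) :
    ⇑(EtCore.Hpull f F q) = EtLim.HofPush f ((EtCoh.pull f).obj F) q ∘
      fun x => x.comp (Ext.mk₀ ((EtCoh.pullPushAdj f).unit.app F)) (add_zero q) :=
  funext (Hpull_eq_HofPush f F q)

/-- Degree-zero restriction and composition with the unit. -/
theorem postcomp_mk₀_injective {A B : EtCoh.Ab V} (φ : A ⟶ B) :
    Function.Injective (fun x : EtCoh.H V A 0 => x.comp (Ext.mk₀ φ) (add_zero 0)) ↔
      Function.Injective (fun z : EtCoh.const V ℤ ⟶ A => z ≫ φ) := by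
  constructor
  · intro h a b hab
    refine (Ext.mk₀_bijective _ _).1 (h ?_)
    show (Ext.mk₀ a).comp _ _ = (Ext.mk₀ b).comp _ _
    rw [Ext.mk₀_comp_mk₀, Ext.mk₀_comp_mk₀]
    exact congrArg Ext.mk₀ hab
  · intro h a b hab
    obtain ⟨a, rfl⟩ := (Ext.mk₀_bijective _ _).2 a
    obtain ⟨b, rfl⟩ := (Ext.mk₀_bijective _ _).2 b
    simp only [Ext.mk₀_comp_mk₀] at hab
    exact congrArg Ext.mk₀ (h ((Ext.mk₀_bijective _ _).1 hab))

theorem postcomp_mk₀_bijective {A B : EtCoh.Ab V} (φ : A ⟶ B)
    (h : Function.Bijective (fun x : EtCoh.H V A 0 => x.comp (Ext.mk₀ φ) (add_zero 0))) :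
    Function.Bijective (fun z : EtCoh.const V ℤ ⟶ A => z ≫ φ) := by
  refine ⟨(postcomp_mk₀_injective φ).1 h.1, fun b => ?_⟩
  obtain ⟨a, ha⟩ := h.2 (Ext.mk₀ b)
  obtain ⟨a, rfl⟩ := (Ext.mk₀_bijective _ _).2 a
  exact ⟨a, (Ext.mk₀_bijective _ _).1 ((Ext.mk₀_comp_mk₀ _ _).symm.trans ha)⟩

/-- Restriction maps from the unit and the higher direct images. -/
theorem hpull_of_unit [PreservesFiniteLimits (EtCoh.pull f)] (n : ℕ)
    (h0 : 1 ≤ n → Mono ((EtCoh.pullPushAdj f).unit.app F))
    (h1 : 2 ≤ n → IsIso ((EtCoh.pullPushAdj f).unit.app F))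
    (h2 : ∀ q : ℕ, 1 ≤ q → q + 2 ≤ n → IsZero ((EtCoh.Rpush f q).obj ((EtCoh.pull f).obj F))) :
    (∀ p : ℕ, p + 1 < n → Function.Bijective (EtCore.Hpull f F p)) ∧
      (∀ p : ℕ, p + 1 = n → Function.Injective (EtCore.Hpull f F p)) := by
  rcases n with _ | _ | m
  · exact ⟨fun p hp => by omega, fun p hp => by omega⟩
  · refine ⟨fun p hp => by omega, fun p hp => ?_⟩
    obtain rfl : p = 0 := by omega
    rw [Hpull_eq_comp]
    haveI := h0 le_rfl
    refine (EtCdLeray.HofPush_zero_bijective f _).1.comp ((postcomp_mk₀_injective _).2 ?_)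
    exact fun a b hab => (cancel_mono ((EtCoh.pullPushAdj f).unit.app F)).1 hab
  · haveI := h1 (by omega)
    have hL := EtCdLeray.HofPush_of_vanishing f m ((EtCoh.pull f).obj F)
      fun q hq hqm => h2 q hq (by omega)
    constructor
    · intro p hp
      rw [Hpull_eq_comp]
      exact (hL.1 p (by omega)).comp (bijective_postcomp_isIso _ p)
    · intro p hp
      obtain rfl : p = m + 1 := by omega
      rw [Hpull_eq_comp]
      exact hL.2.comp (bijective_postcomp_isIso _ (m + 1)).1

variable {W : Scheme.{u}} (g : W ⟶ V) [AlgebraicGeometry.Etale g]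

/-- The unit after an étale base change. -/
theorem exists_unit_pull : ∃ e : (EtCoh.push (pullback.snd f g)).obj ((EtCoh.pull (pullback.snd f g)).obj
      ((EtCoh.pull g).obj F)) ≅ (EtCoh.pull g).obj ((EtCoh.push f).obj ((EtCoh.pull f).obj F)),
    (EtCoh.pull g).map ((EtCoh.pullPushAdj f).unit.app F) =
      (EtCoh.pullPushAdj (pullback.snd f g)).unit.app ((EtCoh.pull g).obj F) ≫ e.hom := by
  obtain ⟨θ, hθ⟩ := exists_unit_restrict f g F
  haveI := isIso_baseChange0_etale f g ((EtCoh.pull f).obj F)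
  let bc := asIso (EtCoh.baseChange0 f g (pullback.snd f g) (pullback.fst f g) pullback.condition
    ((EtCoh.pull f).obj F))
  refine ⟨(EtCoh.push (pullback.snd f g)).mapIso θ ≪≫ bc.symm, ?_⟩
  rw [← cancel_mono bc.hom]
  simp only [Iso.trans_hom, Functor.mapIso_hom, Iso.symm_hom, Category.assoc, Iso.inv_hom_id,
    Category.comp_id]
  exact hθ

theorem mono_unit_restrict [Mono ((EtCoh.pullPushAdj f).unit.app F)] :
    Mono ((EtCoh.pullPushAdj (pullback.snd f g)).unit.app ((EtCoh.pull g).obj F)) := by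
  obtain ⟨e, he⟩ := exists_unit_pull f F g
  haveI : Mono ((EtCoh.pullPushAdj (pullback.snd f g)).unit.app ((EtCoh.pull g).obj F) ≫ e.hom) := by
    rw [← he]; infer_instance
  exact mono_of_mono _ e.hom

theorem isIso_unit_restrict [IsIso ((EtCoh.pullPushAdj f).unit.app F)] :
    IsIso ((EtCoh.pullPushAdj (pullback.snd f g)).unit.app ((EtCoh.pull g).obj F)) := by
  obtain ⟨e, he⟩ := exists_unit_pull f F g
  haveI : IsIso ((EtCoh.pullPushAdj (pullback.snd f g)).unit.app ((EtCoh.pull g).obj F) ≫ e.hom) := by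
    rw [← he]; infer_instance
  exact IsIso.of_isIso_comp_right _ e.hom

/-- Higher direct images after an étale base change. -/
theorem nonempty_rpush_restrict (q : ℕ) :
    Nonempty ((EtCoh.pull g).obj ((EtCoh.Rpush f q).obj ((EtCoh.pull f).obj F)) ≅
      (EtCoh.Rpush (pullback.snd f g) q).obj
        ((EtCoh.pull (pullback.snd f g)).obj ((EtCoh.pull g).obj F))) := by
  obtain ⟨θ, -⟩ := exists_unit_restrict f g F
  haveI := isIso_bcQ_etale f g ((EtCoh.pull f).obj F) q
  exact ⟨asIso (EtBC.bcQ f g (pullback.snd f g) (pullback.fst f g) pullback.condition q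
    ((EtCoh.pull f).obj F)) ≪≫ (EtCoh.Rpush (pullback.snd f g) q).mapIso θ.symm⟩

theorem isZero_rpush_restrict (q : ℕ) (h : IsZero ((EtCoh.Rpush f q).obj ((EtCoh.pull f).obj F))) :
    IsZero ((EtCoh.Rpush (pullback.snd f g) q).obj
        ((EtCoh.pull (pullback.snd f g)).obj ((EtCoh.pull g).obj F))) := by
  obtain ⟨e⟩ := nonempty_rpush_restrict f F g q
  exact (Functor.map_isZero _ h).of_iso e.symm

/-- A sheaf without sections over étale schemes is zero. -/
theorem isZero_of_sections (K : EtCoh.Ab V)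
    (h : ∀ (W : V.Etale) (z : EtCoh.const W.left ℤ ⟶ (EtCoh.pull W.hom).obj K), z = 0) : IsZero K := by
  haveI : IsIso (0 : K ⟶ K) := by
    refine isIso_of_bijective_restrict _ fun W => ⟨fun a b _ => ?_, fun b => ⟨0, ?_⟩⟩
    · rw [h W a, h W b]
    · rw [h W b]; simp
  exact (IsZero.iff_id_eq_zero _).2 ((isIsoZeroEquiv _ _).1 ‹_›).1

/-- Degree-zero restriction and the pulled-back unit. -/
theorem bijective_pull_unit
    (hc : Function.Bijective (EtCore.Hpull (pullback.snd f g) ((EtCoh.pull g).obj F) 0)) :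
    Function.Bijective fun z : EtCoh.const W ℤ ⟶ (EtCoh.pull g).obj F =>
      z ≫ (EtCoh.pull g).map ((EtCoh.pullPushAdj f).unit.app F) := by
  rw [Hpull_eq_comp] at hc
  have h1 := postcomp_mk₀_bijective _
    ((Function.Bijective.of_comp_iff' (EtCdLeray.HofPush_zero_bijective _ _) _).1 hc)
  obtain ⟨e, he⟩ := exists_unit_pull f F g
  rw [he]
  simp only [← Category.assoc]
  exact e.homToEquiv.bijective.comp h1

/-- Degree-zero restriction kills the sections of the kernel of the unit. -/
theorem eq_zero_of_injective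
    (hc : Function.Injective (EtCore.Hpull (pullback.snd f g) ((EtCoh.pull g).obj F) 0)) {A : EtCoh.Ab V}
    (κ : A ⟶ F) [Mono κ] (hκ : κ ≫ (EtCoh.pullPushAdj f).unit.app F = 0)
    (z : EtCoh.const W ℤ ⟶ (EtCoh.pull g).obj A) : z = 0 := by
  rw [Hpull_eq_comp] at hc
  have h1 := (postcomp_mk₀_injective _).1 (Function.Injective.of_comp hc)
  obtain ⟨e, he⟩ := exists_unit_pull f F g
  have h3 : (EtCoh.pull g).map κ ≫ (EtCoh.pullPushAdj (pullback.snd f g)).unit.app ((EtCoh.pull g).obj F) =
      0 := by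
    rw [← cancel_mono e.hom]
    refine (Category.assoc _ _ _).trans ((congrArg (_ ≫ ·) he.symm).trans ?_)
    rw [zero_comp, ← Functor.map_comp, hκ, Functor.map_zero]
  have h2 : z ≫ (EtCoh.pull g).map κ = 0 := by
    refine h1 ?_
    show (z ≫ _) ≫ _ = 0 ≫ _
    rw [zero_comp, Category.assoc, h3, comp_zero]
  exact (cancel_mono ((EtCoh.pull g).map κ)).1 (h2.trans zero_comp.symm)

/-- The unit and the higher direct images from restriction maps. -/
theorem unit_of_hpull (n : ℕ)
    (h : ∀ (W : Scheme.{u}) (g : W ⟶ V) [AlgebraicGeometry.Etale g],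
      (∀ p : ℕ, p + 1 < n → Function.Bijective
          (EtCore.Hpull (pullback.snd f g) ((EtCoh.pull g).obj F) p)) ∧
        (∀ p : ℕ, p + 1 = n → Function.Injective
          (EtCore.Hpull (pullback.snd f g) ((EtCoh.pull g).obj F) p))) :
    (1 ≤ n → Mono ((EtCoh.pullPushAdj f).unit.app F)) ∧
      (2 ≤ n → IsIso ((EtCoh.pullPushAdj f).unit.app F)) ∧
      ∀ q : ℕ, 1 ≤ q → q + 2 ≤ n → IsZero ((EtCoh.Rpush f q).obj ((EtCoh.pull f).obj F)) := by
  have hiso : 2 ≤ n → IsIso ((EtCoh.pullPushAdj f).unit.app F) := fun hn => by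
    refine isIso_of_bijective_restrict _ fun W => ?_
    haveI : AlgebraicGeometry.Etale W.hom := W.prop
    exact bijective_pull_unit f F W.hom ((h W.left W.hom).1 0 (by omega))
  refine ⟨fun hn => ?_, hiso, ?_⟩
  · rcases Nat.lt_or_ge n 2 with hn2 | hn2
    · refine Preadditive.mono_of_isZero_kernel _ (isZero_of_sections _ fun W z => ?_)
      haveI : AlgebraicGeometry.Etale W.hom := W.prop
      exact eq_zero_of_injective f F W.hom ((h W.left W.hom).2 0 (by omega)) _ (kernel.condition _) z
    · haveI := hiso hn2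
      infer_instance
  · intro q
    induction q using Nat.strong_induction_on with
    | _ q ih =>
      intro hq hqn
      obtain ⟨k, rfl⟩ := Nat.exists_eq_succ_of_ne_zero (by omega : q ≠ 0)
      refine isZero_of_sections _ fun W x => ?_
      haveI : AlgebraicGeometry.Etale W.hom := W.prop
      let f' := pullback.snd f W.hom
      let F' := (EtCoh.pull W.hom).obj F
      haveI := hiso (by omega)
      haveI : IsIso ((EtCoh.pullPushAdj f').unit.app F') := isIso_unit_restrict f F W.hom
      have hH := h W.left W.hom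
      have key : ∀ p : ℕ,
          (Function.Injective (EtCore.Hpull f' F' p) →
            Function.Injective (EtLim.HofPush f' ((EtCoh.pull f').obj F') p)) ∧
          (Function.Surjective (EtCore.Hpull f' F' p) →
            Function.Surjective (EtLim.HofPush f' ((EtCoh.pull f').obj F') p)) := fun p => by
        have hb := bijective_postcomp_isIso ((EtCoh.pullPushAdj f').unit.app F') p
        rw [Hpull_eq_comp]
        exact ⟨fun hi => Function.Injective.of_comp_right hi hb.2,
          fun hs => Function.Surjective.of_comp hs⟩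
      have hi : Function.Injective (EtLim.HofPush f' ((EtCoh.pull f').obj F') (k + 2)) := by
        refine (key _).1 ?_
        rcases Nat.lt_or_ge (k + 3) n with hk | hk
        · exact (hH.1 (k + 2) (by omega)).1
        · exact hH.2 (k + 2) (by omega)
      have hR : ∀ i, 1 ≤ i → i ≤ k → IsZero ((EtCoh.Rpush f' i).obj ((EtCoh.pull f').obj F')) :=
        fun i h1 h2 => isZero_rpush_restrict f F W.hom i (ih i (by omega) h1 (by omega))
      obtain ⟨e⟩ := nonempty_rpush_restrict f F W.hom (k + 1)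
      rw [← cancel_mono e.hom, zero_comp]
      exact EtCdLeray.hom_const_Rpush_eq_zero f' k _ hR ((key _).2 (hH.1 (k + 1) (by omega)).2) hi _

/-- Restriction maps on all étale schemes detect the unit and the higher direct images. -/
theorem unit_iff_hpull (n : ℕ) :
    ((1 ≤ n → Mono ((EtCoh.pullPushAdj f).unit.app F)) ∧
      (2 ≤ n → IsIso ((EtCoh.pullPushAdj f).unit.app F)) ∧
      ∀ q : ℕ, 1 ≤ q → q + 2 ≤ n → IsZero ((EtCoh.Rpush f q).obj ((EtCoh.pull f).obj F))) ↔
    ∀ (W : Scheme.{u}) (g : W ⟶ V) [AlgebraicGeometry.Etale g],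
      (∀ p : ℕ, p + 1 < n → Function.Bijective
          (EtCore.Hpull (pullback.snd f g) ((EtCoh.pull g).obj F) p)) ∧
        (∀ p : ℕ, p + 1 = n → Function.Injective
          (EtCore.Hpull (pullback.snd f g) ((EtCoh.pull g).obj F) p)) := by
  refine ⟨fun ⟨h0, h1, h2⟩ W g _ => hpull_of_unit _ _ n (fun hn => ?_) (fun hn => ?_)
    (fun q hq hqn => isZero_rpush_restrict f F g q (h2 q hq hqn)), unit_of_hpull f F n⟩
  · haveI := h0 hn
    exact mono_unit_restrict f F g
  · haveI := h1 hn
    exact isIso_unit_restrict f F g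

end Restriction

end Groth.EtDepthLib
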