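import Groth.Agent.EtDepthLib.ConstClopen
import Groth.Agent.EtDepthLib.Criterion
import Groth.Agent.Pi1FEt.FullClopen
import Groth.Agent.Pi1Lef.ClopenOfFF

/-!
# Étale depth one and two and restriction of finite étale covers
-/

set_option autoImplicit false
set_option backward.isDefEq.respectTransparency.types false
set_option maxHeartbeats 1000000

universe u

open CategoryTheory CategoryTheory.Limits AlgebraicGeometry Opposite

namespace Groth.EtDepthLib

open Groth.EtaleBase Groth.EtaleBase.LocConst Groth.EtaleBase.Supp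

attribute [local instance] InjCoh.jCont

variable {X U : Scheme.{u}} (j : U ⟶ X) [IsOpenImmersion j]

/-- The unit is invertible exactly when restriction of sections to the open is bijective. -/
theorem isIso_unitApp_iff (F : EtCoh.Ab X) : IsIso (EtDual.unitApp j F) ↔
    ∀ V : X.Etale, Function.Bijective (F.obj.map (cu j V).op) := by
  let η := (Groth.EtaleBase.restrPushAdj j).unit.app F
  have h0 : IsIso (EtDual.unitApp j F) ↔ IsIso η := by
    show _ ↔ IsIso ((Groth.EtaleBase.restrPushAdj j).unit.app F)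
    rw [← unit_push_pullRestrIso j F]
    exact (isIso_comp_right_iff _ _).symm
  rw [h0]
  constructor
  · intro h V
    exact (ConcreteCategory.isIso_iff_bijective (η.hom.app (op V))).1
      (inferInstanceAs (IsIso (((sheafToPresheaf _ _).map η).app (op V))))
  · intro h
    haveI : ∀ W : X.Etaleᵒᵖ, IsIso (η.hom.app W) := fun W =>
      (ConcreteCategory.isIso_iff_bijective _).2 (h W.unop)
    haveI : IsIso η.hom := NatIso.isIso_of_isIso_app _
    haveI : IsIso ((sheafToPresheaf X.smallEtaleTopology AddCommGrpCat.{u + 1}).map η) := ‹IsIso η.hom›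
    exact isIso_of_reflects_iso η (sheafToPresheaf X.smallEtaleTopology AddCommGrpCat.{u + 1})

/-- The unit is a monomorphism exactly when restriction of sections to the open is injective. -/
theorem mono_unitApp_iff (F : EtCoh.Ab X) : Mono (EtDual.unitApp j F) ↔
    ∀ V : X.Etale, Function.Injective (F.obj.map (cu j V).op) := by
  rw [← isZero_locCoh_zero_iff]
  constructor
  · intro h V
    exact (injective_iff_map_eq_zero _).2 fun s hs => eq_zero_of_isZero_locCoh_zero j F h V s hs
  · exact fun h => DivisorClass.isZero_locCoh_zero_of j F fun V s hs => h V (hs.trans (map_zero _).symm)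

/-- Clopens transfer between open embeddings with the same image. -/
theorem exists_clopen_transfer {A B T : Type*} [TopologicalSpace A] [TopologicalSpace B] [TopologicalSpace T]
    {e₁ : A → T} {e₂ : B → T} (h₁ : Topology.IsOpenEmbedding e₁) (h₂ : Topology.IsOpenEmbedding e₂)
    (hr : Set.range e₁ = Set.range e₂)
    (h : ∀ C₀ : Set A, IsClopen C₀ → ∃ C : Set T, IsClopen C ∧ e₁ ⁻¹' C = C₀)
    {D : Set B} (hD : IsClopen D) : ∃ C : Set T, IsClopen C ∧ e₂ ⁻¹' C = D := by
  have hc : (e₁ ⁻¹' (e₂ '' D))ᶜ = e₁ ⁻¹' (e₂ '' Dᶜ) := by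
    ext a
    obtain ⟨b, hb⟩ : e₁ a ∈ Set.range e₂ := hr ▸ ⟨a, rfl⟩
    simp only [Set.mem_compl_iff, Set.mem_preimage, ← hb, h₂.injective.mem_set_image]
  obtain ⟨C, hC, hC'⟩ := h (e₁ ⁻¹' (e₂ '' D))
    ⟨⟨hc ▸ (h₂.isOpenMap _ hD.compl.isOpen).preimage h₁.continuous⟩,
      (h₂.isOpenMap _ hD.isOpen).preimage h₁.continuous⟩
  refine ⟨C, hC, ?_⟩
  ext b
  obtain ⟨a, ha⟩ : e₂ b ∈ Set.range e₁ := hr ▸ ⟨b, rfl⟩
  rw [Set.mem_preimage, ← ha, ← Set.mem_preimage (f := e₁) (s := C), hC', Set.mem_preimage, ha,
    h₂.injective.mem_set_image]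

variable {X' : Scheme.{u}} (g : X' ⟶ X)

theorem range_cover_fst (A : FEt.Cat X') :
    Set.range (pullback.fst A.hom (pullback.snd j g)).base = (A.hom ≫ g).base ⁻¹' Set.range j.base := by
  rw [Scheme.Pullback.range_fst, Scheme.Pullback.range_snd]
  rfl

variable [AlgebraicGeometry.Etale g]

/-- Clopen detection gives faithfulness on every étale scheme. -/
theorem cover_clopenInj (h : ClopenInj j) (A : FEt.Cat X') (C : Set ↥A.left) (hC : IsClopen C)
    (hsub : Set.range (pullback.fst A.hom (pullback.snd j g)).base ⊆ C) : C = Set.univ := by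
  haveI : AlgebraicGeometry.Etale A.hom := A.prop.2
  exact h (Scheme.Etale.mk (A.hom ≫ g)) C hC (range_cover_fst j g A ▸ hsub)

/-- Clopen extension on every cover of an étale scheme. -/
theorem cover_clopenSurj (h : ClopenSurj j) (A : FEt.Cat X')
    (C₀ : Set ↥(pullback A.hom (pullback.snd j g))) (hC₀ : IsClopen C₀) :
    ∃ C : Set ↥A.left, IsClopen C ∧ (pullback.fst A.hom (pullback.snd j g)).base ⁻¹' C = C₀ := by
  haveI : AlgebraicGeometry.Etale A.hom := A.prop.2
  let V : X.Etale := Scheme.Etale.mk (A.hom ≫ g)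
  exact exists_clopen_transfer (e₁ := (pullback.fst V.hom j).base)
    (pullback.fst V.hom j).isOpenEmbedding (pullback.fst A.hom (pullback.snd j g)).isOpenEmbedding
    ((range_fst j V).trans (range_cover_fst j g A).symm) (h V) hC₀

omit [AlgebraicGeometry.Etale g]

/-- The trivial cover. -/
noncomputable def trivCover (Y : Scheme.{u}) : FEt.Cat Y :=
  MorphismProperty.Over.mk ⊤ (𝟙 Y) ⟨inferInstance, inferInstance⟩

/-- Faithfulness on every étale scheme detects clopens. -/
theorem clopenInj_of_faithful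
    (h : ∀ (X' : Scheme.{u}) (g : X' ⟶ X) [AlgebraicGeometry.Etale g],
      (FEt.restrict (pullback.snd j g)).Faithful) : ClopenInj j := by
  intro V C hC hsub
  haveI : AlgebraicGeometry.Etale V.hom := V.prop
  let f := pullback.snd j V.hom
  haveI := h V.left V.hom
  let A := trivCover V.left
  haveI : IsFinite (coprod.desc (𝟙 V.left) (𝟙 V.left) : V.left ⨿ V.left ⟶ V.left) := inferInstance
  haveI : AlgebraicGeometry.Etale (coprod.desc (𝟙 V.left) (𝟙 V.left) : V.left ⨿ V.left ⟶ V.left) := by
    let 𝒰 := coprodOpenCover.{u, u} V.left V.left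
    refine IsZariskiLocalAtSource.of_openCover 𝒰 ?_
    rintro (i | i)
    · change AlgebraicGeometry.Etale (coprod.inl ≫ coprod.desc _ _); rw [coprod.inl_desc]; exact MorphismProperty.id_mem @AlgebraicGeometry.Etale _
    · change AlgebraicGeometry.Etale (coprod.inr ≫ coprod.desc _ _); rw [coprod.inr_desc]; exact MorphismProperty.id_mem @AlgebraicGeometry.Etale _
  let B : FEt.Cat V.left := MorphismProperty.Over.mk ⊤
    (coprod.desc (𝟙 V.left) (𝟙 V.left)) ⟨inferInstance, inferInstance⟩
  obtain ⟨χ, hχ, hχC, -, -⟩ := Pi1Lef.exists_sep (A := V.left) (𝟙 V.left) hC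
  let a : A ⟶ B := MorphismProperty.Over.homMk χ hχ
  let b : A ⟶ B := MorphismProperty.Over.homMk coprod.inl (coprod.inl_desc _ _)
  have hab : a = b := (FEt.restrict f).map_injective <| by
    apply MorphismProperty.Over.Hom.ext
    apply pullback.hom_ext
    · refine (Pi1FEt.restrict_map_left_fst a f).trans ?_
      refine Eq.trans ?_ (Pi1FEt.restrict_map_left_fst b f).symm
      change pullback.fst A.hom f ≫ χ = pullback.fst A.hom f ≫ coprod.inl
      refine Pi1Lef.sep_unique (m := pullback.fst A.hom f) ?_ ?_ ?_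
      · exact (Category.assoc _ _ _).trans ((congrArg (pullback.fst A.hom f ≫ ·) hχ).trans (Category.comp_id _))
      · exact (Category.assoc _ _ _).trans
          ((congrArg (pullback.fst A.hom f ≫ ·) (coprod.inl_desc _ _)).trans (Category.comp_id _))
      · ext z
        refine ⟨fun _ => ⟨_, rfl⟩, fun _ => ?_⟩
        show (pullback.fst A.hom f).base z ∈ χ.base ⁻¹' Set.range _
        refine hχC.ge (hsub ?_)
        have hz : (pullback.fst A.hom f).base z ∈ (A.hom ≫ V.hom).base ⁻¹' Set.range j.base :=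
          range_cover_fst j V.hom A ▸ ⟨z, rfl⟩
        exact hz
    · exact (MorphismProperty.Over.w ((FEt.restrict f).map a)).trans
        (MorphismProperty.Over.w ((FEt.restrict f).map b)).symm
  have : χ = coprod.inl := congrArg (fun r : A ⟶ B => r.left) hab
  rw [← hχC, this]
  exact Set.eq_univ_iff_forall.2 fun x => ⟨x, rfl⟩

/-- Full faithfulness on every étale scheme extends clopens. -/
theorem clopenSurj_of_fullyFaithful
    (h : ∀ (X' : Scheme.{u}) (g : X' ⟶ X) [AlgebraicGeometry.Etale g],
      (FEt.restrict (pullback.snd j g)).Full ∧ (FEt.restrict (pullback.snd j g)).Faithful) :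
    ClopenSurj j := by
  intro V C₀ hC₀
  haveI : AlgebraicGeometry.Etale V.hom := V.prop
  haveI := (h V.left V.hom).1
  haveI := (h V.left V.hom).2
  let A := trivCover V.left
  refine exists_clopen_transfer (T := V.left) (e₁ := (pullback.fst A.hom (pullback.snd j V.hom)).base)
    (pullback.fst A.hom (pullback.snd j V.hom)).isOpenEmbedding (pullback.fst V.hom j).isOpenEmbedding
    ((range_cover_fst j V.hom A).trans (Eq.trans ?_ (range_fst j V).symm)) (fun D hD => ?_) hC₀
  · show (𝟙 V.left ≫ V.hom).base ⁻¹' _ = _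
    rw [Category.id_comp]
  · obtain ⟨C, hC, -⟩ := Pi1Lef.clopenBij_of_fullyFaithful (pullback.snd j V.hom) A D hD
    exact ⟨C, hC⟩

variable [EtCoh.BCCont j]

theorem depthGE_one_iff (F : EtCoh.Ab X) : EtDepth.DepthGE j F 1 ↔
    ∀ V : X.Etale, Function.Injective (F.obj.map (cu j V).op) := by
  rw [depthGE_iff, ← mono_unitApp_iff]
  exact ⟨fun h => h.1 le_rfl, fun h => ⟨fun _ => h, fun h2 => by omega, fun q hq hq' => by omega⟩⟩

theorem depthGE_two_iff (F : EtCoh.Ab X) : EtDepth.DepthGE j F 2 ↔
    ∀ V : X.Etale, Function.Bijective (F.obj.map (cu j V).op) := by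
  rw [depthGE_iff, ← isIso_unitApp_iff]
  exact ⟨fun h => h.2.1 le_rfl, fun h => ⟨fun _ => by haveI := h; exact inferInstance, fun _ => h,
    fun q hq hq' => by omega⟩⟩

/-- Depth one and two against restriction of finite étale covers. -/
theorem depthGE_const_iff :
    ((∀ ℓ : ℕ, ℓ.Prime → EtDepth.DepthGE j (EtCoh.const X (ZMod ℓ)) 1) ↔
      ∀ (X' : Scheme.{u}) (g : X' ⟶ X) [AlgebraicGeometry.Etale g],
        (FEt.restrict (pullback.snd j g)).Faithful) ∧
    ((∀ ℓ : ℕ, ℓ.Prime → EtDepth.DepthGE j (EtCoh.const X (ZMod ℓ)) 2) ↔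
      ∀ (X' : Scheme.{u}) (g : X' ⟶ X) [AlgebraicGeometry.Etale g],
        (FEt.restrict (pullback.snd j g)).Full ∧ (FEt.restrict (pullback.snd j g)).Faithful) := by
  haveI : Fact (Nat.Prime 2) := ⟨Nat.prime_two⟩
  constructor
  · constructor
    · intro h X' g _
      have h1 := clopenInj_of_injective (M := ZMod 2) j ((depthGE_one_iff j _).1 (h 2 Nat.prime_two))
      exact Pi1Etale.restrict_faithful_of_clopen _ (cover_clopenInj j g h1)
    · intro h ℓ _
      exact (depthGE_one_iff j _).2 (injective_of_clopenInj (ZMod ℓ) j (clopenInj_of_faithful j h))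
  · constructor
    · intro h X' g _
      have hb := (depthGE_two_iff j _).1 (h 2 Nat.prime_two)
      have h1 := clopenInj_of_injective (M := ZMod 2) j fun V => (hb V).1
      have h2 := clopenSurj_of_surjective (M := ZMod 2) j fun V => (hb V).2
      exact ⟨Pi1FEt.restrict_full_of_clopen _ (cover_clopenInj j g h1) (cover_clopenSurj j g h2),
        Pi1Etale.restrict_faithful_of_clopen _ (cover_clopenInj j g h1)⟩
    · intro h ℓ hℓ
      haveI : Fact ℓ.Prime := ⟨hℓ⟩
      exact (depthGE_two_iff j _).2 (bijective_of_clopens (ZMod ℓ) j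
        (clopenInj_of_faithful j fun X' g _ => (h X' g).2) (clopenSurj_of_fullyFaithful j h))

end Groth.EtDepthLib
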