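import Groth.Agent.EtDepthLib.Criterion
import Groth.Prelude.Def_RDer

/-!
# The edge map in the first non-vanishing degree
-/

set_option autoImplicit false
set_option backward.isDefEq.respectTransparency.types false
set_option maxHeartbeats 1000000

universe u v w v' w'

open CategoryTheory CategoryTheory.Limits HomologicalComplex

namespace Groth.EtDepthLib

section Complex

variable {B : Type w} [Category.{v} B] [Abelian B] (K : CochainComplex B ℕ) (hI : ∀ i, Injective (K.X i))

include hI in
/-- Below the first cohomology, the boundary maps of a complex of injectives split. -/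
theorem exists_regular_toCycles : ∀ (p : ℕ), (∀ i, i < p → IsZero (K.homology i)) →
    ∃ r : K.cycles p ⟶ K.X ((ComplexShape.up ℕ).prev p),
      K.toCycles ((ComplexShape.up ℕ).prev p) p ≫ r ≫ K.toCycles ((ComplexShape.up ℕ).prev p) p =
        K.toCycles ((ComplexShape.up ℕ).prev p) p := by
  intro p
  induction p with
  | zero =>
    intro _
    refine ⟨0, ?_⟩
    have : K.toCycles ((ComplexShape.up ℕ).prev 0) 0 = 0 := by
      rw [← cancel_mono (K.iCycles 0), toCycles_i, zero_comp]
      refine K.shape _ _ ?_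
      rw [CochainComplex.prev_nat_zero]
      simp
    rw [this]; simp
  | succ p ih =>
    intro hz
    obtain ⟨r, hr⟩ := ih fun i hi => hz i (by omega)
    let t := K.toCycles ((ComplexShape.up ℕ).prev p) p
    haveI : Epi t := by
      refine Preadditive.epi_of_cancel_zero _ fun {W} f hf => ?_
      have hc := K.homologyIsCokernel ((ComplexShape.up ℕ).prev p) p rfl
      obtain ⟨f', hf'⟩ := CokernelCofork.IsColimit.desc' hc f hf
      rw [← hf', (hz p (by omega)).eq_of_src f' 0, comp_zero]
    have hrt : r ≫ t = 𝟙 _ := (cancel_epi t).1 (hr.trans (Category.comp_id _).symm)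
    haveI := hI ((ComplexShape.up ℕ).prev p)
    haveI : Injective (K.cycles p) :=
      ⟨fun {A A'} g i _ => ⟨Injective.factorThru (g ≫ r) i ≫ t, by
        rw [Injective.comp_factorThru_assoc, Category.assoc, hrt, Category.comp_id]⟩⟩
    have hn : (ComplexShape.up ℕ).next p = p + 1 := CochainComplex.next ℕ p
    have hp : (ComplexShape.up ℕ).prev (p + 1) = p := CochainComplex.prev_nat_succ p
    rw [hp]
    let q : K.X p ⟶ K.cycles p := Injective.factorThru (𝟙 _) (K.iCycles p)
    have hq : K.iCycles p ≫ q = 𝟙 _ := Injective.comp_factorThru _ _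
    let e : K.X p ⟶ K.X p := 𝟙 _ - q ≫ K.iCycles p
    have he : K.iCycles p ≫ e = 0 := by simp [e, reassoc_of% hq]
    have w : K.iCycles p ≫ K.toCycles p (p + 1) = 0 := by
      rw [← cancel_mono (K.iCycles (p + 1)), Category.assoc, toCycles_i, iCycles_d, zero_comp]
    haveI := hI p
    have hex : (ShortComplex.mk _ _ w).Exact := by
      refine ShortComplex.exact_of_f_is_kernel _ (KernelFork.IsLimit.ofι' _ _ fun {W} x hx => ?_)
      have hx' : x ≫ K.d p (p + 1) = 0 := by
        rw [← toCycles_i, ← Category.assoc]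
        exact (congrArg (· ≫ _) hx).trans zero_comp
      exact ⟨K.liftCycles x (p + 1) hn hx', K.liftCycles_i _ _ _ _⟩
    refine ⟨hex.descToInjective e he, ?_⟩
    rw [← Category.assoc, hex.comp_descToInjective e he, Preadditive.sub_comp, Category.id_comp,
      Category.assoc, w, comp_zero, sub_zero]

variable {C : Type w'} [Category.{v'} C] [Abelian C] (Ψ : B ⥤ C) [Ψ.Additive] [PreservesFiniteLimits Ψ]

theorem mono_map_iCycles (i : ℕ) : Mono (Ψ.map (K.iCycles i)) := inferInstance

theorem isIso_cyclesComparison (i : ℕ) : IsIso (RDer.cyclesComparison Ψ K i) := by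
  have hn : (ComplexShape.up ℕ).next i = i + 1 := CochainComplex.next ℕ i
  refine ⟨((Ψ.mapHomologicalComplex _).obj K).liftCycles (Ψ.map (K.iCycles i)) (i + 1) hn ?_, ?_, ?_⟩
  · show Ψ.map (K.iCycles i) ≫ Ψ.map (K.d i (i + 1)) = 0
    rw [← Ψ.map_comp, iCycles_d, Ψ.map_zero]
  · refine (cancel_mono (((Ψ.mapHomologicalComplex _).obj K).iCycles i)).1 ?_
    exact (Category.assoc _ _ _).trans ((congrArg (RDer.cyclesComparison Ψ K i ≫ ·)
      (HomologicalComplex.liftCycles_i _ _ _ _ _)).trans
        ((RDer.cyclesComparison_i Ψ K i).trans (Category.id_comp _).symm))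
  · refine (cancel_mono (Ψ.map (K.iCycles i))).1 ?_
    exact (Category.assoc _ _ _).trans ((congrArg (_ ≫ ·) (RDer.cyclesComparison_i Ψ K i)).trans
      ((HomologicalComplex.liftCycles_i _ _ _ _ _).trans (Category.id_comp _).symm))

include hI in
/-- A left exact functor commutes with the first cohomology of a complex of injectives. -/
theorem isIso_homologyComparison (n : ℕ) (hz : ∀ i, i < n → IsZero (K.homology i)) :
    IsIso (RDer.homologyComparison Ψ K n) := by
  obtain ⟨r, hr⟩ := exists_regular_toCycles K hI n hz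
  let t := K.toCycles ((ComplexShape.up ℕ).prev n) n
  obtain ⟨s, hs⟩ := CokernelCofork.IsColimit.desc' (K.homologyIsCokernel ((ComplexShape.up ℕ).prev n) n rfl)
    (𝟙 _ - r ≫ t) (by simp [t, hr])
  have hs' : K.homologyπ n ≫ s = 𝟙 _ - r ≫ t := hs
  have ht : t ≫ K.homologyπ n = 0 := K.toCycles_comp_homologyπ _ _
  have hsπ : s ≫ K.homologyπ n = 𝟙 _ := by
    rw [← cancel_epi (K.homologyπ n), ← Category.assoc, hs', Preadditive.sub_comp, Category.assoc, ht]
    simp
  haveI := isIso_cyclesComparison K Ψ n
  let L := (Ψ.mapHomologicalComplex (ComplexShape.up ℕ)).obj K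
  let cc := RDer.cyclesComparison Ψ K n
  refine ⟨Ψ.map s ≫ inv cc ≫ L.homologyπ n, ?_, ?_⟩
  · rw [← cancel_epi (L.homologyπ n), RDer.homologyπ_homologyComparison_assoc, Category.comp_id,
      ← Ψ.map_comp_assoc, hs', Functor.map_sub, Ψ.map_id, Preadditive.sub_comp, Preadditive.comp_sub,
      Category.id_comp, IsIso.hom_inv_id_assoc, Ψ.map_comp, Category.assoc]
    have key : Ψ.map t ≫ inv cc ≫ L.homologyπ n = 0 :=
      (congrArg (· ≫ inv cc ≫ L.homologyπ n) (RDer.toCycles_cyclesComparison Ψ K n).symm).trans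
        ((Category.assoc _ _ _).trans ((congrArg (L.toCycles ((ComplexShape.up ℕ).prev n) n ≫ ·)
          (IsIso.hom_inv_id_assoc cc _)).trans (L.toCycles_comp_homologyπ _ _)))
    rw [key]
    simp
  · rw [Category.assoc, Category.assoc, RDer.homologyπ_homologyComparison, IsIso.inv_hom_id_assoc,
      ← Ψ.map_comp, hsπ]
    exact Ψ.map_id _

end Complex

open AlgebraicGeometry Groth.EtaleBase.Supp in
/-- Supported sections of an injective sheaf form an injective sheaf. -/
theorem injective_secSupp {X U : Scheme.{u}} (j : U ⟶ X) [IsOpenImmersion j] (I : EtCoh.Ab X) [Injective I] :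
    Injective ((EtDual.secSupp j).obj I) := by
  obtain ⟨t, ht⟩ := exists_section j I
  let u := EtDual.unitApp j I
  let p : I ⟶ (EtDual.secSupp j).obj I :=
    kernel.lift u (𝟙 I - u ≫ t) (by
      show (𝟙 I - u ≫ t) ≫ u = 0
      rw [Preadditive.sub_comp, Category.assoc, ht, Category.id_comp, Category.comp_id, sub_self])
  have hp : kernel.ι u ≫ p = 𝟙 _ := by
    rw [← cancel_mono (kernel.ι u), Category.assoc, kernel.lift_ι, Preadditive.comp_sub,
      ← Category.assoc, kernel.condition]
    simp
  exact ⟨fun {A A'} g i _ => ⟨Injective.factorThru (g ≫ kernel.ι u) i ≫ p, by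
    rw [Injective.comp_factorThru_assoc, Category.assoc, hp, Category.comp_id]⟩⟩

open AlgebraicGeometry in
/-- The edge map out of local cohomology in the first possibly non-zero degree. -/
theorem isIso_edgeOut {X U : Scheme.{u}} (j : U ⟶ X) [IsOpenImmersion j]
    {C : Type w'} [Category.{v'} C] [Abelian C] (Ψ : EtCoh.Ab X ⥤ C) [Ψ.Additive] [PreservesFiniteLimits Ψ]
    (F : EtCoh.Ab X) (n : ℕ) (h : ∀ p, p < n → IsZero ((EtDual.locCoh j p).obj F)) :
    IsIso (RDer.edgeOut (EtDual.secSupp j) Ψ n F) := by
  let I := injectiveResolution F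
  have h1 := isIso_homologyComparison (((EtDual.secSupp j).mapHomologicalComplex _).obj I.cocomplex)
    (fun i => injective_secSupp j (I.cocomplex.X i)) Ψ n
    (fun i hi => (h i hi).of_iso (I.isoRightDerivedObj (EtDual.secSupp j) i).symm)
  haveI : IsIso (RDer.homologyComparison Ψ
      (((EtDual.secSupp j).mapHomologicalComplex _).obj I.cocomplex) n) := h1
  haveI : IsIso (Ψ.map (I.isoRightDerivedObj (EtDual.secSupp j) n).inv) := inferInstance
  exact @IsIso.comp_isIso _ _ _ _ _ _ _ inferInstance (@IsIso.comp_isIso _ _ _ _ _ _ _ h1 inferInstance)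

end Groth.EtDepthLib
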