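import Groth.Agent.EtaleBase.LocCohTransfer
import Groth.Agent.EtaleBase.LocConstOps
import Groth.Agent.RDerLib.LES
import Groth.Prelude.Def_EtDepth
import Mathlib.GroupTheory.Coset.Card
import Mathlib.GroupTheory.OrderOfElement

/-!
# Étale depth of finite locally constant sheaves
-/

set_option autoImplicit false
set_option backward.isDefEq.respectTransparency.types false
set_option maxHeartbeats 1000000
set_option synthInstance.maxHeartbeats 200000

universe u

open CategoryTheory CategoryTheory.Limits AlgebraicGeometry Opposite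

namespace Groth.EtDepthLib

open Groth.EtaleBase Groth.EtaleBase.Supp Groth.EtaleBase.LocConst

variable {X U : Scheme.{u}} (j : U ⟶ X) [IsOpenImmersion j]

/-- Local cohomology vanishes when the sheaf is locally isomorphic to sheaves whose local cohomology vanishes. -/
theorem isZero_locCoh_of_locally (G : EtCoh.Ab X) (p : ℕ)
    (hloc : ∀ x : X, ∃ (W : X.Etale), (∃ y, W.hom.base y = x) ∧
      ∃ F : EtCoh.Ab X, IsZero ((EtDual.locCoh j p).obj F) ∧ Nonempty (EtCoh.restr G W ≅ EtCoh.restr F W)) :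
    IsZero ((EtDual.locCoh j p).obj G) := by
  let J : InjectiveResolution G := injectiveResolution G
  rw [isZero_locCoh_iff j J, exact_secSupp_iff]
  intro V s hs hg v
  obtain ⟨W, ⟨y, hy⟩, F, h, ⟨e⟩⟩ := hloc (V.hom.base v)
  let I : InjectiveResolution F := injectiveResolution F
  rw [isZero_locCoh_iff j I, exact_secSupp_iff] at h
  let R := X.smallEtaleTopology.overPullback AddCommGrpCat.{u + 1} W
  have hlim : PreservesFiniteLimits R :=
    ((Over.forget W).sheafAdjunctionContinuous AddCommGrpCat.{u + 1} (X.smallEtaleTopology.over W)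
      X.smallEtaleTopology).rightAdjoint_preservesLimits.{0, 0}.preservesFiniteLimits
  have hcolim : PreservesFiniteColimits R :=
    SiteCohomology.preservesFiniteColimits_sheafPushforward (X.smallEtaleTopology.over W)
      X.smallEtaleTopology (Over.forget W) AddCommGrpCat.{u + 1}
  have hinj : ∀ A : EtCoh.Ab X, Injective A → Injective (R.obj A) := fun A _ =>
    SiteCohomology.HomShDual.injective_over W A
  let QI : InjectiveResolution (R.obj F) := SiteCohomology.mapInjectiveResolution R I hinj fun k =>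
    (I.cocomplex_exactAt_succ k).map R
  let QJ₀ : InjectiveResolution (R.obj G) := SiteCohomology.mapInjectiveResolution R J hinj fun k =>
    (J.cocomplex_exactAt_succ k).map R
  let QJ : InjectiveResolution (R.obj F) :=
    { cocomplex := QJ₀.cocomplex
      injective := QJ₀.injective
      ι := (CochainComplex.single₀ _).map e.inv ≫ QJ₀.ι }
  let H := InjectiveResolution.homotopyEquiv QJ QI
  let φ : ∀ n, EtCoh.restr (J.cocomplex.X n) W ⟶ EtCoh.restr (I.cocomplex.X n) W := fun n => H.hom.f n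
  let ψ : ∀ n, EtCoh.restr (I.cocomplex.X n) W ⟶ EtCoh.restr (J.cocomplex.X n) W := fun n => H.inv.f n
  let k : ∀ a b, EtCoh.restr (J.cocomplex.X a) W ⟶ EtCoh.restr (J.cocomplex.X b) W :=
    fun a b => H.homotopyHomInvId.hom a b
  have hφ : ∀ a b (Y : Over W) (t : (J.cocomplex.X a).obj.obj (op Y.left)),
      ov (φ b) Y ((J.cocomplex.d a b).hom.app (op Y.left) t) =
        (I.cocomplex.d a b).hom.app (op Y.left) (ov (φ a) Y t) := fun a b Y t =>
    (ConcreteCategory.congr_hom
      (congrArg (fun m : EtCoh.restr (J.cocomplex.X a) W ⟶ EtCoh.restr (I.cocomplex.X b) W =>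
        m.hom.app (op Y)) (H.hom.comm a b)) t).symm
  have hψ : ∀ a b (Y : Over W) (t : (I.cocomplex.X a).obj.obj (op Y.left)),
      ov (ψ b) Y ((I.cocomplex.d a b).hom.app (op Y.left) t) =
        (J.cocomplex.d a b).hom.app (op Y.left) (ov (ψ a) Y t) := fun a b Y t =>
    (ConcreteCategory.congr_hom
      (congrArg (fun m : EtCoh.restr (I.cocomplex.X a) W ⟶ EtCoh.restr (J.cocomplex.X b) W =>
        m.hom.app (op Y)) (H.inv.comm a b)) t).symm
  have hk : ∀ (Y : Over W) (t : (J.cocomplex.X p).obj.obj (op Y.left)),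
      ov (ψ p) Y (ov (φ p) Y t) =
        ((ov (k ((ComplexShape.up ℕ).next p) p) Y)
            ((J.cocomplex.d p ((ComplexShape.up ℕ).next p)).hom.app (op Y.left) t) :
              (J.cocomplex.X p).obj.obj (op Y.left)) +
          (J.cocomplex.d ((ComplexShape.up ℕ).prev p) p).hom.app (op Y.left)
            (ov (k p ((ComplexShape.up ℕ).prev p)) Y t) + t := fun Y t =>
    ConcreteCategory.congr_hom
      (congrArg (fun m : EtCoh.restr (J.cocomplex.X p) W ⟶ EtCoh.restr (J.cocomplex.X p) W =>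
        m.hom.app (op Y)) (H.homotopyHomInvId.comm p)) t
  obtain ⟨t₁, ht₁⟩ := exists_geomPoint_lift V v
  obtain ⟨t₂, -⟩ := exists_fiber_of_point (geomPoint (V.hom.base v)) W y
    (hy.trans (geomPoint_apply _ _).symm)
  obtain ⟨V', a, c, w, hwa, -⟩ := exists_common _ V W t₁ t₂
  subst hwa
  let s' := (J.cocomplex.X p).obj.map a.op s
  have hs' : IsSupp j (J.cocomplex.X p) s' := hs.res j a
  have hg' : (J.cocomplex.d p ((ComplexShape.up ℕ).next p)).hom.app (op V') s' = 0 :=
    (NatTrans.naturality_apply (J.cocomplex.d p ((ComplexShape.up ℕ).next p)).hom a.op s).trans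
      ((congrArg _ hg).trans (map_zero _))
  let Y' : Over W := Over.mk c
  obtain ⟨Z, g, ⟨z, hz⟩, b, hb, hdb⟩ := h V' (ov (φ p) Y' s')
    (hs'.app_over j (φ p) Y') (by
      refine (hφ p _ Y' s').symm.trans ?_
      exact (congrArg _ hg').trans (map_zero _)) (fiberPoint _ w)
  refine ⟨Z, g ≫ a, ⟨z, ?_⟩, ?_⟩
  · rw [← ht₁]
    exact (congrArg a.left.base hz).trans (fiberPoint_map _ a w).symm
  let Y : Over W := Over.mk (g ≫ c)
  let gY : Y ⟶ Y' := Over.homMk g rfl
  let s'' : (J.cocomplex.X p).obj.obj (op Y.left) := (J.cocomplex.X p).obj.map g.op s'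
  let q := (ComplexShape.up ℕ).prev p
  let b₁ : (J.cocomplex.X q).obj.obj (op Y.left) := ov (ψ q) Y b
  let b₂ : (J.cocomplex.X q).obj.obj (op Y.left) := ov (k p q) Y s''
  let b' : (J.cocomplex.X q).obj.obj (op Y.left) := b₁ + -b₂
  refine ⟨b', ?_, ?_⟩
  · exact IsSupp.add j (hb.app_over j (ψ q) Y) (((hs'.res j g).app_over j (k p q) Y).neg j)
  · change (J.cocomplex.d q p).hom.app (op Z) b' = (J.cocomplex.X p).obj.map (g ≫ a).op s
    rw [op_comp, Functor.map_comp_apply]
    change (J.cocomplex.d q p).hom.app (op Y.left) b' = s''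
    simp only [b', map_add, map_neg]
    refine (congrArg (· + _) ((hψ q p Y b).symm.trans (congrArg _ hdb))).trans ?_
    have h2 : (I.cocomplex.X p).obj.map gY.left.op (ov (φ p) Y' s') = ov (φ p) Y s'' :=
      ov_res (φ p) gY s'
    have h3 : (J.cocomplex.d p ((ComplexShape.up ℕ).next p)).hom.app (op Z) s'' = 0 :=
      (NatTrans.naturality_apply (J.cocomplex.d p ((ComplexShape.up ℕ).next p)).hom g.op s').trans
        ((congrArg _ hg').trans (map_zero _))
    refine (congrArg (fun z => ov (ψ p) Y z + _) h2).trans ?_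
    refine (congrArg (· + _) ((hk Y s'').trans (congrArg (fun z => z + _ + s'')
      ((congrArg _ h3).trans (map_zero _))))).trans ?_
    abel

/-- The middle term of a short exact sequence has vanishing local cohomology when the outer ones do. -/
theorem isZero_locCoh_middle (S : ShortComplex (EtCoh.Ab X)) (hS : S.ShortExact) (p : ℕ)
    (h1 : IsZero ((EtDual.locCoh j p).obj S.X₁)) (h3 : IsZero ((EtDual.locCoh j p).obj S.X₃)) :
    IsZero ((EtDual.locCoh j p).obj S.X₂) := by
  obtain ⟨Δ⟩ := Groth.RDerLib.exists_derivedLES (EtDual.secSupp j)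
  exact (Δ.exact₂ S hS p).isZero_of_both_zeros (h1.eq_of_src _ _) (h3.eq_of_tgt _ _)

/-- Constant sheaves of finite `ℓ`-groups. -/
theorem isZero_locCoh_const (ℓ : ℕ) (hℓ : ℓ.Prime) (p : ℕ)
    (h : IsZero ((EtDual.locCoh j p).obj (EtCoh.const X (ZMod ℓ)))) :
    ∀ (k : ℕ) (M : Type) [AddCommGroup M] [Finite M], Nat.card M ≤ k →
      (∀ a : M, ∃ i : ℕ, ℓ ^ i • a = 0) → IsZero ((EtDual.locCoh j p).obj (EtCoh.const X M)) := by
  haveI : PreservesFiniteLimits (constantSheaf X.smallEtaleTopology AddCommGrpCat.{u + 1}) :=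
    inferInstanceAs (PreservesFiniteLimits (Functor.const X.Etaleᵒᵖ ⋙
      presheafToSheaf X.smallEtaleTopology AddCommGrpCat.{u + 1}))
  haveI : PreservesFiniteColimits (constantSheaf X.smallEtaleTopology AddCommGrpCat.{u + 1}) :=
    inferInstanceAs (PreservesFiniteColimits (Functor.const X.Etaleᵒᵖ ⋙
      presheafToSheaf X.smallEtaleTopology AddCommGrpCat.{u + 1}))
  haveI : (constantSheaf X.smallEtaleTopology AddCommGrpCat.{u + 1}).Additive :=
    Functor.additive_of_preserves_binary_products _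
  let C := constantSheaf X.smallEtaleTopology AddCommGrpCat.{u + 1}
  classical
  intro k
  induction k with
  | zero => exact fun M _ _ h => absurd h (Nat.not_le.2 Nat.card_pos)
  | succ k ih =>
    intro M _ _ hM htor
    rcases subsingleton_or_nontrivial M with hM1 | hM1
    · show IsZero (((EtDual.secSupp j).rightDerived p).obj _)
      exact Functor.map_isZero _ (Functor.map_isZero C
        (@AddCommGrpCat.isZero_of_subsingleton _ inferInstance))
    obtain ⟨a, ha⟩ := exists_ne (0 : M)
    obtain ⟨i, hi⟩ := htor a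
    have hex : ∃ m, ℓ ^ m • a = 0 := ⟨i, hi⟩
    obtain ⟨m, hm⟩ : ∃ m, Nat.find hex = m + 1 :=
      Nat.exists_eq_succ_of_ne_zero fun h0 => ha (by simpa [h0] using Nat.find_spec hex)
    let b : M := ℓ ^ m • a
    have hb0 : b ≠ 0 := Nat.find_min hex (by omega)
    have hb : ℓ • b = 0 := by
      have := Nat.find_spec hex
      rw [hm, pow_succ', mul_smul] at this
      exact this
    haveI : Fact ℓ.Prime := ⟨hℓ⟩
    let f : ZMod ℓ →+ M := ZMod.lift ℓ ⟨zmultiplesHom M b, by simpa using hb⟩
    have hf : Function.Injective f := by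
      rw [injective_iff_map_eq_zero]
      intro x hx
      obtain ⟨z, rfl⟩ := ZMod.intCast_surjective x
      have hz : z • b = 0 := by simpa [f] using hx
      rw [ZMod.intCast_zmod_eq_zero_iff_dvd, ← addOrderOf_eq_prime hb hb0]
      exact addOrderOf_dvd_iff_zsmul_eq_zero.2 hz
    let H : AddSubgroup M := f.range
    let Q := M ⧸ H
    have hQ : Nat.card Q ≤ k := by
      have h1 : Nat.card M = Nat.card Q * Nat.card H := AddSubgroup.card_eq_card_quotient_mul_card_addSubgroup H
      have h2 : Nat.card H = ℓ := by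
        rw [← Nat.card_congr (AddMonoidHom.ofInjective hf).toEquiv, Nat.card_zmod]
      rw [h2] at h1
      have h3 := hℓ.two_le
      have h4 : 0 < Nat.card Q := Nat.card_pos
      nlinarith
    let f' : AddCommGrpCat.of (ULift.{u + 1} (ZMod ℓ)) ⟶ AddCommGrpCat.of (ULift.{u + 1} M) :=
      AddCommGrpCat.ofHom (AddEquiv.ulift.symm.toAddMonoidHom.comp
        (f.comp AddEquiv.ulift.toAddMonoidHom))
    let g' : AddCommGrpCat.of (ULift.{u + 1} M) ⟶ AddCommGrpCat.of (ULift.{u + 1} Q) :=
      AddCommGrpCat.ofHom (AddEquiv.ulift.symm.toAddMonoidHom.comp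
        ((QuotientAddGroup.mk' H).comp AddEquiv.ulift.toAddMonoidHom))
    have w : f' ≫ g' = 0 := by
      ext x
      exact ((QuotientAddGroup.eq_zero_iff (N := H) (f x.down)).2 (AddMonoidHom.mem_range.2 ⟨x.down, rfl⟩))
    let S₀ := ShortComplex.mk f' g' w
    have hS₀ : S₀.ShortExact := by
      refine ShortComplex.ShortExact.mk' ?_ ((AddCommGrpCat.mono_iff_injective _).2 ?_)
        ((AddCommGrpCat.epi_iff_surjective _).2 ?_)
      · rw [ShortComplex.ab_exact_iff]
        intro y hy
        obtain ⟨x, hx⟩ := (QuotientAddGroup.eq_zero_iff _).1 (congrArg ULift.down hy)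
        exact ⟨ULift.up x, congrArg ULift.up hx⟩
      · intro x y e
        exact ULift.ext _ _ (hf (congrArg ULift.down e))
      · intro q
        obtain ⟨y, hy⟩ := QuotientAddGroup.mk'_surjective H q.down
        exact ⟨ULift.up y, congrArg ULift.up hy⟩
    exact isZero_locCoh_middle j _ (hS₀.map_of_exact C) p h (ih Q hQ fun q => by
      obtain ⟨y, rfl⟩ := QuotientAddGroup.mk'_surjective H q
      obtain ⟨i, hi⟩ := htor y
      exact ⟨i, by rw [← map_nsmul, hi, map_zero]⟩)

/-- Depth for constant coefficients gives depth for finite locally constant `ℓ`-torsion sheaves. -/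
theorem depthGE_of_const [EtCoh.BCCont j] (ℓ : ℕ) (hℓ : ℓ.Prime) (n : ℕ)
    (hX : EtDepth.DepthGE j (EtCoh.const X (ZMod ℓ)) n) (F : EtCoh.Ab X)
    (hFlc : EtCoh.IsFiniteLocallyConstant F) (hFt : EtDepth.IsLTorsion ℓ F) : EtDepth.DepthGE j F n := by
  intro p hp
  refine isZero_locCoh_of_locally j F p fun x => ?_
  obtain ⟨W, ⟨y, hy⟩, M, _, _, s, hs⟩ := isFLC_iff.1 hFlc x
  refine ⟨W, ⟨y, hy⟩, EtCoh.const X M, isZero_locCoh_const j ℓ hℓ p (hX p hp) _ M le_rfl fun a => ?_, ?_⟩
  · obtain ⟨V, g, ⟨v, hv⟩, k, hk⟩ := hFt W (s ⟨a⟩) y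
    refine ⟨k, congrArg ULift.down
      (show ℓ ^ k • (ULift.up.{u + 1} a) = 0 from (hs.res g).injective_of_nonempty v ?_)⟩
    rw [map_nsmul, map_zero]
    exact hk
  · obtain ⟨e⟩ := hs.iso
    obtain ⟨e'⟩ := StalkBij.iso (exists_stalkBij_const W (ULift.{u + 1} M))
    exact ⟨e ≪≫ e'.symm⟩

end Groth.EtDepthLib
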