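import Groth.Agent.EtDepthLib.Criterion
import Groth.Agent.EtCd.AcycComp
import Mathlib.AlgebraicGeometry.Morphisms.Finite

/-!
# Étale depth along a smaller closed subset
-/

set_option autoImplicit false
set_option synthInstance.maxHeartbeats 400000
set_option backward.isDefEq.respectTransparency.types false

universe u

open CategoryTheory CategoryTheory.Limits CategoryTheory.Abelian AlgebraicGeometry Opposite
open Groth.EtaleBase Groth.EtCdCriterion

namespace Groth.EtDepthLib

variable {A B C : Scheme.{u}}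

/-- Transport of injectivity and bijectivity of restriction along an isomorphism of sheaves. -/
theorem Hpull_iso_sheaf (h : A ⟶ B) {G G' : EtCoh.Ab B} (e : G ≅ G') (q : ℕ) :
    (Function.Injective (EtCore.Hpull h G q) → Function.Injective (EtCore.Hpull h G' q)) ∧
      (Function.Bijective (EtCore.Hpull h G q) → Function.Bijective (EtCore.Hpull h G' q)) := by
  have h1 := bijective_postcomp_isIso e.hom q
  have h2 := bijective_postcomp_isIso ((EtCoh.pull h).map e.hom) q
  have he : ⇑(EtCore.Hpull h G' q) ∘ (fun x : EtCoh.H B G q => x.comp (Ext.mk₀ e.hom) (add_zero q)) =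
      (fun x : EtCoh.H A ((EtCoh.pull h).obj G) q => x.comp (Ext.mk₀ ((EtCoh.pull h).map e.hom)) (add_zero q)) ∘ ⇑(EtCore.Hpull h G q) :=
    funext fun x => Groth.EtCd.Hpull_comp_mk₀ h e.hom x
  constructor
  · intro hi
    have : Function.Injective (⇑(EtCore.Hpull h G' q) ∘
        fun x : EtCoh.H B G q => x.comp (Ext.mk₀ e.hom) (add_zero q)) := he ▸ h2.1.comp hi
    exact this.of_comp_right h1.2
  · intro hb
    exact (Function.Bijective.of_comp_iff _ h1).1 (he ▸ h2.comp hb)

theorem Hpull_bijective_of_isIso (h : A ⟶ B) [IsIso h] (G : EtCoh.Ab B) (q : ℕ) :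
    Function.Bijective (EtCore.Hpull h G q) :=
  InjCoh.Hpull_bijective_univHomeo h G q

theorem Hpull_congr {h h' : A ⟶ B} (w : h = h') (G : EtCoh.Ab B) (q : ℕ) :
    (Function.Injective (EtCore.Hpull h G q) → Function.Injective (EtCore.Hpull h' G q)) ∧
      (Function.Bijective (EtCore.Hpull h G q) → Function.Bijective (EtCore.Hpull h' G q)) := by
  subst w
  exact ⟨id, id⟩

/-- Restriction along a composite as a composite of restrictions. -/
theorem Hpull_comp_equiv (a : A ⟶ B) (b : B ⟶ C) (G : EtCoh.Ab C) (q : ℕ) :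
    ∃ e : EtCoh.H A ((EtCoh.pull a).obj ((EtCoh.pull b).obj G)) q ≃+
        EtCoh.H A ((EtCoh.pull (a ≫ b)).obj G) q,
      ⇑(EtCore.Hpull (a ≫ b) G q) =
        ⇑e ∘ ⇑(EtCore.Hpull a ((EtCoh.pull b).obj G) q) ∘ ⇑(EtCore.Hpull b G q) :=
  ⟨((EtCoh.HF A q).mapIso ((EtCore.pullComp a b).symm.app G)).addCommGroupIsoToAddEquiv,
    funext fun y => EtCdAcycComp.Hpull_comp a b G q y⟩

/-- Depth along a closed subset passes to smaller closed subsets. -/
theorem depthGE_mono {X U V : Scheme.{u}} (j : U ⟶ X) [IsOpenImmersion j] [EtCoh.BCCont j]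
    (k : V ⟶ X) [IsOpenImmersion k] [EtCoh.BCCont k] (hUV : Set.range j.base ⊆ Set.range k.base)
    (F : EtCoh.Ab X) (n : ℕ) (h : EtDepth.DepthGE j F n) : EtDepth.DepthGE k F n := by
  rw [depthGE_iff, unit_iff_hpull] at h ⊢
  intro W g _
  let l : U ⟶ V := IsOpenImmersion.lift k j hUV
  have hl : l ≫ k = j := IsOpenImmersion.lift_fac k j hUV
  let k' := pullback.snd k g
  let s := pullback.snd j (k' ≫ g)
  let m : pullback j g ⟶ pullback k g :=
    pullback.lift (pullback.fst j g ≫ l) (pullback.snd j g)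
      (by rw [Category.assoc, hl, pullback.condition])
  have hm : m ≫ k' = pullback.snd j g := pullback.lift_snd _ _ _
  let θ : pullback j (k' ≫ g) ≅ pullback j g :=
    { hom := pullback.lift (pullback.fst j _) (s ≫ k') (by rw [Category.assoc]; exact pullback.condition)
      inv := pullback.lift (pullback.fst j g) m (by rw [← Category.assoc, hm]; exact pullback.condition)
      hom_inv_id := by
        refine pullback.hom_ext ?_ ((cancel_mono k').1 ?_)
        · exact (Category.assoc _ _ _).trans ((congrArg (_ ≫ ·) (pullback.lift_fst _ _ _)).trans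
            ((pullback.lift_fst _ _ _).trans (Category.id_comp _).symm))
        · refine (congrArg (· ≫ k') ((Category.assoc _ _ _).trans
            (congrArg (_ ≫ ·) (pullback.lift_snd _ _ _)))).trans ?_
          rw [Category.assoc, hm, Category.id_comp]
          exact pullback.lift_snd _ _ _
      inv_hom_id := by
        refine pullback.hom_ext ?_ ?_
        · exact (Category.assoc _ _ _).trans ((congrArg (_ ≫ ·) (pullback.lift_fst _ _ _)).trans
            ((pullback.lift_fst _ _ _).trans (Category.id_comp _).symm))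
        · refine ((Category.assoc _ _ _).trans (congrArg (_ ≫ ·) (pullback.lift_snd _ _ _))).trans ?_
          rw [← Category.assoc]
          exact ((congrArg (· ≫ k') (pullback.lift_snd _ _ _)).trans hm).trans (Category.id_comp _).symm }
  have hfac : (θ.inv ≫ s) ≫ k' = pullback.snd j g := by
    rw [show θ.inv ≫ s = m from pullback.lift_snd _ _ _, hm]
  let G := (EtCoh.pull g).obj F
  let G' := (EtCoh.pull k').obj G
  have hG : ∀ q, q + 1 < n ∨ q + 1 = n → Function.Injective (EtCore.Hpull (θ.inv ≫ s) G' q) := by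
    intro q hq
    have h1 : Function.Injective (EtCore.Hpull s ((EtCoh.pull (k' ≫ g)).obj F) q) :=
      hq.elim (fun hq => ((h _ (k' ≫ g)).1 q hq).1) ((h _ (k' ≫ g)).2 q)
    have h2 := (Hpull_iso_sheaf s ((EtCore.pullComp k' g).app F) q).1 h1
    obtain ⟨e, he⟩ := Hpull_comp_equiv θ.inv s G' q
    rw [he]
    exact e.injective.comp ((@Hpull_bijective_of_isIso _ _ θ.inv θ.isIso_inv _ q).1.comp h2)
  constructor
  · intro q hq
    have h1 := (Hpull_congr hfac.symm G q).2 ((h W g).1 q hq)
    obtain ⟨e, he⟩ := Hpull_comp_equiv (θ.inv ≫ s) k' G q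
    rw [he] at h1
    have h2 : Function.Bijective (⇑(EtCore.Hpull (θ.inv ≫ s) G' q) ∘ ⇑(EtCore.Hpull k' G q)) :=
      (Function.Bijective.of_comp_iff' e.bijective _).1 h1
    refine ⟨Function.Injective.of_comp h2.1, fun y => ?_⟩
    obtain ⟨x, hx⟩ := h2.2 (EtCore.Hpull (θ.inv ≫ s) G' q y)
    exact ⟨x, hG q (Or.inl hq) hx⟩
  · intro q hq
    have h1 := (Hpull_congr hfac.symm G q).1 ((h W g).2 q hq)
    obtain ⟨e, he⟩ := Hpull_comp_equiv (θ.inv ≫ s) k' G q
    rw [he] at h1
    exact Function.Injective.of_comp (Function.Injective.of_comp h1)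

end Groth.EtDepthLib
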