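import Groth.Agent.EtDepthLib.WeakEtaleBC
import Groth.Agent.EtDepthLib.LocConstDepth
import Groth.Agent.EtDepthLib.ConstClopen
import Groth.Agent.EtCd.Torsion
import Groth.Agent.S0537
import Groth.Agent.S0538
import Groth.Agent.S0754

/-!
# Étale depth along a closed subset and at its points
-/

set_option autoImplicit false
set_option synthInstance.maxHeartbeats 400000
set_option backward.isDefEq.respectTransparency.types false
set_option maxHeartbeats 1000000

universe u

open CategoryTheory CategoryTheory.Limits AlgebraicGeometry Opposite IsLocalRing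
open Groth.EtaleBase Groth.EtaleBase.LocConst

namespace Groth.EtDepthLib

/-- A morphism vanishing on all stalks vanishes. -/
theorem hom_eq_zero_of_stalks {X : Scheme.{u}} {A B : EtCoh.Ab X} (φ : A ⟶ B)
    (h : ∀ s : X, (stalkAt s).map φ = 0) : φ = 0 := by
  apply (sheafToPresheaf _ _).map_injective
  ext V σ
  refine section_eq_zero_of_germs B V.unop _ fun v => ?_
  obtain ⟨t, ht⟩ := exists_geomPoint_lift V.unop v
  have h0 : germ _ B V.unop t (φ.hom.app _ σ) = 0 := by
    rw [← germ_map, h]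
    rfl
  obtain ⟨W, g, ⟨w, hw⟩, hz⟩ := (germ_eq_zero_iff_mem _ B V.unop _ t).1 h0
  exact ⟨W, g, ⟨w, hw.trans ht⟩, hz⟩

/-- Stalks of pulled back morphisms. -/
theorem stalk_map_pull_eq_zero_iff {X Y : Scheme.{u}} (l : Y ⟶ X) {Ω : Type u} [Field Ω] [IsSepClosed Ω]
    (ξ : Spec (CommRingCat.of Ω) ⟶ Y) {A B : EtCoh.Ab X} (φ : A ⟶ B) :
    (EtCoh.stalk ξ).map ((EtCoh.pull l).map φ) = 0 ↔ (EtCoh.stalk (ξ ≫ l)).map φ = 0 := by
  have h : (EtCoh.stalk (ξ ≫ l)).map φ ≫ (stalkPullIso l ξ).hom.app B =
      (stalkPullIso l ξ).hom.app A ≫ (EtCoh.stalk ξ).map ((EtCoh.pull l).map φ) :=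
    (stalkPullIso l ξ).hom.naturality φ
  constructor
  · intro h0
    rw [← cancel_mono ((stalkPullIso l ξ).hom.app B), h, h0, comp_zero, zero_comp]
  · intro h0
    rw [← cancel_epi ((stalkPullIso l ξ).hom.app A)]
    exact h.symm.trans ((congrArg (· ≫ _) h0).trans (zero_comp.trans comp_zero.symm))

/-- The section attached to a morphism from the constant sheaf of integers. -/
noncomputable def oneSection {X : Scheme.{u}} {G : EtCoh.Ab X} (φ : EtCoh.const X ℤ ⟶ G) :
    G.obj.obj (op (EtCoh.top X)) :=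
  φ.hom.app (op (EtCoh.top X)) (cst ℤ (EtCoh.top X) ⟨1⟩)

/-- Points near which a morphism from the constant sheaf of integers vanishes. -/
def zeroSet {X : Scheme.{u}} {G : EtCoh.Ab X} (φ : EtCoh.const X ℤ ⟶ G) : Set X :=
  vanishSet G (EtCoh.top X) (oneSection φ)

theorem isOpen_zeroSet {X : Scheme.{u}} {G : EtCoh.Ab X} (φ : EtCoh.const X ℤ ⟶ G) :
    IsOpen (zeroSet φ) :=
  isOpen_vanishSet G (EtCoh.top X) (oneSection φ)

/-- Vanishing on a stalk of a morphism from the constant sheaf of integers. -/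
theorem stalk_map_eq_zero_iff {X : Scheme.{u}} {G : EtCoh.Ab X} (φ : EtCoh.const X ℤ ⟶ G)
    {Ω : Type u} [Field Ω] [IsSepClosed Ω] (ξ : Spec (CommRingCat.of Ω) ⟶ X) :
    (EtCoh.stalk ξ).map φ = 0 ↔ ξ.base default ∈ zeroSet φ := by
  obtain ⟨t, ht⟩ := exists_fiber_of_point ξ (EtCoh.top X) (ξ.base default) rfl
  have hkey : germ ξ G (EtCoh.top X) t (oneSection φ) = 0 ↔
      ξ.base default ∈ vanishSet G (EtCoh.top X) (oneSection φ) := by
    rw [germ_eq_zero_iff_mem]
    exact Iff.of_eq (congrArg (· ∈ vanishSet G (EtCoh.top X) (oneSection φ)) ht)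
  refine Iff.trans ?_ hkey
  constructor
  · intro h
    rw [oneSection, ← germ_map, h]
    rfl
  · intro h
    ext a
    obtain ⟨m, rfl⟩ := (cst_stalkBij ℤ (EtCoh.top X) Ω _ _ ξ t).2 a
    have hm : m = m.down • (⟨1⟩ : ULift.{u + 1} ℤ) := ULift.ext _ _ (by simp)
    show (EtCoh.stalk ξ).map φ (germ ξ _ (EtCoh.top X) t (cst ℤ (EtCoh.top X) m)) = 0
    rw [hm, map_zsmul, map_zsmul, map_zsmul, germ_map]
    exact (congrArg (m.down • ·) h).trans (zsmul_zero _)

variable {X U : Scheme.{u}} (j : U ⟶ X) [IsOpenImmersion j]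

/-- Points of an open subscheme. -/
theorem exists_factor {Ω : Type u} [Field Ω] (ξ : Spec (CommRingCat.of Ω) ⟶ X)
    (h : ξ.base default ∈ Set.range j.base) : ∃ ξ' : Spec (CommRingCat.of Ω) ⟶ U, ξ' ≫ j = ξ :=
  ⟨IsOpenImmersion.lift j ξ (by rintro _ ⟨a, rfl⟩; rwa [Subsingleton.elim a default]),
    IsOpenImmersion.lift_fac _ _ _⟩

/-- The kernel of the unit vanishes on the open. -/
theorem isZero_stalk_kernel (F : EtCoh.Ab X) {Ω : Type u} [Field Ω] [IsSepClosed Ω]
    (ξ : Spec (CommRingCat.of Ω) ⟶ X) (h : ξ.base default ∈ Set.range j.base) :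
    IsZero ((EtCoh.stalk ξ).obj (kernel ((EtCoh.pullPushAdj j).unit.app F))) := by
  obtain ⟨ξ', rfl⟩ := exists_factor j ξ h
  refine IsZero.of_iso ?_ ((stalkPullIso j ξ').app _)
  refine Functor.map_isZero (EtCoh.stalk ξ') ?_
  let u := (EtCoh.pullPushAdj j).unit.app F
  haveI := isIso_counit_openImmersion j ((EtCoh.pull j).obj F)
  haveI : IsIso ((EtCoh.pull j).map u) :=
    IsIso.of_isIso_fac_right (h := 𝟙 _) ((EtCoh.pullPushAdj j).left_triangle_components F)
  have h0 : (EtCoh.pull j).map (kernel.ι u) = 0 := by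
    rw [← cancel_mono ((EtCoh.pull j).map u), ← Functor.map_comp, kernel.condition, Functor.map_zero,
      zero_comp]
  haveI : Mono ((EtCoh.pull j).map (kernel.ι u)) := inferInstance
  exact IsZero.of_mono_eq_zero _ h0

/-- A closed subset has points without proper generizations in it. -/
theorem exists_maximal_point {T : Type*} [TopologicalSpace T] [QuasiSober T] [T0Space T] {A : Set T}
    (hA : IsClosed A) (hne : A.Nonempty) : ∃ η ∈ A, ∀ w ∈ A, w ⤳ η → w = η := by
  haveI : QuasiSober A := hA.isClosedEmbedding_subtypeVal.quasiSober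
  obtain ⟨a, ha⟩ := hne
  let Z : Set A := irreducibleComponent (⟨a, ha⟩ : A)
  obtain ⟨η, hη⟩ := QuasiSober.sober (isIrreducible_irreducibleComponent (x := (⟨a, ha⟩ : A)))
    isClosed_irreducibleComponent
  refine ⟨η.1, η.2, fun w hw hs => ?_⟩
  let w' : A := ⟨w, hw⟩
  have hsA : w' ⤳ η := (subtype_specializes_iff w' η).2 hs
  have hle : Z ⊆ closure {w'} := hη.def.symm.subset.trans hsA.closure_subset
  have heq := (irreducibleComponent_property (⟨a, ha⟩ : A)).2.2 _ isIrreducible_singleton.closure.2 hle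
  have h2 : closure {w'} ⊆ Z := heq.subset
  have : η ⤳ w' := hη.specializes (h2 (subset_closure rfl))
  exact (((subtype_specializes_iff η w').1 this).antisymm hs).eq.symm

/-- Monomorphic units pass to subsheaves. -/
theorem mono_unit_of_mono {T T₀ : Scheme.{u}} (k : T₀ ⟶ T) {A B : EtCoh.Ab T} (φ : A ⟶ B) [Mono φ]
    [Mono ((EtCoh.pullPushAdj k).unit.app B)] : Mono ((EtCoh.pullPushAdj k).unit.app A) := by
  haveI : Mono ((EtCoh.pullPushAdj k).unit.app A ≫ (EtCoh.push k).map ((EtCoh.pull k).map φ)) := by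
    refine cast (congrArg (fun m => Mono m) ((EtCoh.pullPushAdj k).unit.naturality φ)) ?_
    exact inferInstanceAs (Mono (φ ≫ (EtCoh.pullPushAdj k).unit.app B))
  exact mono_of_mono _ ((EtCoh.push k).map ((EtCoh.pull k).map φ))

omit [IsOpenImmersion j] in
theorem mem_range_punctured {R : Type u} [CommRing R] [IsLocalRing R]
    (t : (Spec (CommRingCat.of R))) (ht : t ≠ closedPoint R) :
    t ∈ Set.range (FEt.puncturedSpec R).ι.base := by
  rw [Scheme.Opens.range_ι]
  exact ht

/-- Depth one at all points kills the kernel of the unit. -/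
theorem eq_zero_of_points (F : EtCoh.Ab X)
    (h : ∀ y : X, y ∉ Set.range j.base → EtDepth.DepthAtGE X F y 1) {W : Scheme.{u}} (g : W ⟶ X)
    [AlgebraicGeometry.Etale g]
    (φ : EtCoh.const W ℤ ⟶ (EtCoh.pull g).obj (kernel ((EtCoh.pullPushAdj j).unit.app F))) : φ = 0 := by
  let u := (EtCoh.pullPushAdj j).unit.app F
  let G := (EtCoh.pull g).obj (kernel u)
  let A : Set W := (zeroSet φ)ᶜ
  refine hom_eq_zero_of_stalks φ fun s => ?_
  rw [stalk_map_eq_zero_iff, geomPoint_apply]
  by_contra hs
  have hA : IsClosed A := (isOpen_zeroSet φ).isClosed_compl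
  obtain ⟨η, hηA, hmax⟩ := exists_maximal_point (A := A) hA ⟨s, hs⟩
  have hgη : g.base η ∉ Set.range j.base := fun hin => hηA <| by
    rw [← geomPoint_apply η default, ← stalk_map_eq_zero_iff]
    refine IsZero.eq_of_tgt (IsZero.of_iso ?_ ((stalkPullIso g (geomPoint η)).app _).symm) _ _
    exact isZero_stalk_kernel j F _ (by rw [Scheme.Hom.comp_apply, geomPoint_apply]; exact hin)
  obtain ⟨R, _, _, _, _, _⟩ := Groth.Agent.S0537.result (W.presheaf.stalk η)
  letI : Algebra (X.presheaf.stalk (g.base η)) R :=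
    ((algebraMap (W.presheaf.stalk η) R).comp (g.stalkMap η).hom).toAlgebra
  letI : Algebra (X.presheaf.stalk (g.base η)) (W.presheaf.stalk η) := (g.stalkMap η).hom.toAlgebra
  haveI : IsScalarTower (X.presheaf.stalk (g.base η)) (W.presheaf.stalk η) R :=
    IsScalarTower.of_algebraMap_eq fun _ => rfl
  haveI : IsLocalHom (algebraMap (X.presheaf.stalk (g.base η)) (W.presheaf.stalk η)) :=
    inferInstanceAs (IsLocalHom (g.stalkMap η).hom)
  haveI : IsLocalHom (algebraMap (X.presheaf.stalk (g.base η)) R) :=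
    inferInstanceAs (IsLocalHom ((algebraMap (W.presheaf.stalk η) R).comp (g.stalkMap η).hom))
  haveI : Algebra.WeaklyEtale (X.presheaf.stalk (g.base η)) (W.presheaf.stalk η) :=
    Groth.FlatMor2.isWeaklyEtaleHom_iff.1
      ((Groth.FlatMor2.weaklyEtale_iff_stalkMap g).1 inferInstance η)
  haveI := Groth.FlatMor2.WeaklyEtaleHens.isStrictHenselization_of_weaklyEtale
    (X.presheaf.stalk (g.base η)) (W.presheaf.stalk η) R
  let l := Hens2.specOf W η R
  let π := Hens2.specOf X (g.base η) R
  have hπ : l ≫ g = π := by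
    have h1 : Spec.map (g.stalkMap η) ≫ X.fromSpecStalk (g.base η) = W.fromSpecStalk η ≫ g :=
      Scheme.SpecMap_stalkMap_fromSpecStalk g
    show (Spec.map _ ≫ W.fromSpecStalk η) ≫ g = Spec.map _ ≫ X.fromSpecStalk _
    rw [Category.assoc, ← h1, ← Category.assoc, ← Spec.map_comp]
    rfl
  let k := (FEt.puncturedSpec R).ι
  have hd := h (g.base η) hgη R
  rw [depthGE_iff] at hd
  haveI := hd.1 le_rfl
  let κ : (EtCoh.pull π).obj (kernel u) ⟶ (EtCoh.pull π).obj F := (EtCoh.pull π).map (kernel.ι u)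
  haveI : Mono κ := inferInstanceAs (Mono ((EtCoh.pull π).map (kernel.ι u)))
  let e : (EtCoh.pull l).obj G ≅ (EtCoh.pull π).obj (kernel u) :=
    (EtCore.pullComp l g).symm.app (kernel u) ≪≫ (EtCore.pullCongr hπ).app (kernel u)
  haveI : Mono ((EtCoh.pullPushAdj k).unit.app ((EtCoh.pull l).obj G)) := mono_unit_of_mono k (e.hom ≫ κ)
  let ψ := (EtCoh.pull l).map φ
  have hpun : (EtCoh.pull k).map ψ = 0 := by
    refine hom_eq_zero_of_stalks _ fun t => ?_
    rw [stalk_map_pull_eq_zero_iff, stalk_map_pull_eq_zero_iff, stalk_map_eq_zero_iff]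
    by_contra hw
    let z : Spec (CommRingCat.of R) := k.base t
    have hz : z ≠ closedPoint R := t.2
    have hl : ((geomPoint t ≫ k) ≫ l).base default = l.base z :=
      congrArg (fun p => l.base (k.base p)) (geomPoint_apply t default)
    rw [hl] at hw
    have hclosed : l.base (closedPoint R) = η := by
      show (W.fromSpecStalk η).base ((Spec.map (CommRingCat.ofHom
        (algebraMap (W.presheaf.stalk η) R))).base (closedPoint R)) = η
      rw [show (Spec.map (CommRingCat.ofHom (algebraMap (W.presheaf.stalk η) R))).base (closedPoint R) =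
        closedPoint _ from IsLocalRing.comap_closedPoint _]
      exact Scheme.fromSpecStalk_closedPoint
    have heq := hmax _ hw (hclosed ▸ (IsLocalRing.specializes_closedPoint z).map l.continuous)
    refine hz ?_
    have h1 : (Spec.map (CommRingCat.ofHom (algebraMap (W.presheaf.stalk η) R))).base z =
        closedPoint (W.presheaf.stalk η) := by
      refine (W.fromSpecStalk η).isEmbedding.injective ?_
      exact heq.trans Scheme.fromSpecStalk_closedPoint.symm
    have h2 : Ideal.map (algebraMap (W.presheaf.stalk η) R) (maximalIdeal _) ≤ z.asIdeal := by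
      rw [Ideal.map_le_iff_le_comap]
      exact (congrArg PrimeSpectrum.asIdeal h1).ge
    rw [Groth.Agent.S0538.result] at h2
    exact PrimeSpectrum.ext ((maximalIdeal.isMaximal R).eq_of_le z.isPrime.ne_top h2).symm
  have hψ : ψ = 0 := by
    rw [← cancel_mono ((EtCoh.pullPushAdj k).unit.app ((EtCoh.pull l).obj G)), zero_comp]
    refine ((EtCoh.pullPushAdj k).unit.naturality ψ).trans ?_
    rw [Functor.comp_map, hpun, Functor.map_zero, comp_zero]
  refine hηA ?_
  have h3 : (stalkAt (closedPoint R : Spec (CommRingCat.of R))).map ((EtCoh.pull l).map φ) = 0 :=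
    (congrArg _ hψ).trans (Functor.map_zero _ _ _)
  rw [stalk_map_pull_eq_zero_iff, stalk_map_eq_zero_iff, Scheme.Hom.comp_apply, geomPoint_apply] at h3
  have hclosed : l.base (closedPoint R) = η := by
    show (W.fromSpecStalk η).base ((Spec.map (CommRingCat.ofHom
      (algebraMap (W.presheaf.stalk η) R))).base (closedPoint R)) = η
    rw [show (Spec.map (CommRingCat.ofHom (algebraMap (W.presheaf.stalk η) R))).base (closedPoint R) =
      closedPoint _ from IsLocalRing.comap_closedPoint _]
    exact Scheme.fromSpecStalk_closedPoint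
  exact hclosed ▸ h3

/-- Depth one at every point of the complement gives depth one along it. -/
theorem depthGE_one_of_points [EtCoh.BCCont j] (F : EtCoh.Ab X)
    (h : ∀ y : X, y ∉ Set.range j.base → EtDepth.DepthAtGE X F y 1) : EtDepth.DepthGE j F 1 := by
  rw [depthGE_iff]
  refine ⟨fun _ => ?_, fun h2 => by omega, fun q hq hq' => by omega⟩
  refine Preadditive.mono_of_isZero_kernel _ (isZero_of_sections _ fun V φ => ?_)
  haveI : AlgebraicGeometry.Etale V.hom := V.prop
  exact eq_zero_of_points j F h V.hom φ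

theorem isZero_locCoh_left (S : ShortComplex (EtCoh.Ab X)) (hS : S.ShortExact) (p : ℕ)
    (h3 : IsZero ((EtDual.locCoh j p).obj S.X₃)) (h2 : IsZero ((EtDual.locCoh j (p + 1)).obj S.X₂)) :
    IsZero ((EtDual.locCoh j (p + 1)).obj S.X₁) := by
  obtain ⟨Δ⟩ := Groth.RDerLib.exists_derivedLES (EtDual.secSupp j)
  exact (Δ.exact₁ S hS p (p + 1) rfl).isZero_of_both_zeros (h3.eq_of_src _ _) (h2.eq_of_tgt _ _)

theorem isZero_locCoh_right (S : ShortComplex (EtCoh.Ab X)) (hS : S.ShortExact) (p : ℕ)
    (h2 : IsZero ((EtDual.locCoh j p).obj S.X₂)) (h1 : IsZero ((EtDual.locCoh j (p + 1)).obj S.X₁)) :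
    IsZero ((EtDual.locCoh j p).obj S.X₃) := by
  obtain ⟨Δ⟩ := Groth.RDerLib.exists_derivedLES (EtDual.secSupp j)
  exact (Δ.exact₃ S hS p (p + 1) rfl).isZero_of_both_zeros (h2.eq_of_src _ _) (h1.eq_of_tgt _ _)

/-- Direct images of injective sheaves from the open have infinite depth. -/
theorem depthGE_push_injective [EtCoh.BCCont j] (J : EtCoh.Ab U) [Injective J] (n : ℕ) :
    EtDepth.DepthGE j ((EtCoh.push j).obj J) n := by
  rw [depthGE_iff]
  haveI := isIso_counit_openImmersion j J
  haveI : IsIso ((EtCoh.pullPushAdj j).unit.app ((EtCoh.push j).obj J)) :=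
    IsIso.of_isIso_fac_right (h := 𝟙 _) ((EtCoh.pullPushAdj j).right_triangle_components J)
  refine ⟨fun _ => inferInstance, fun _ => inferInstance, fun q hq _ => ?_⟩
  obtain ⟨r, rfl⟩ : ∃ r, q = r + 1 := ⟨q - 1, by omega⟩
  exact (Functor.isZero_rightDerived_obj_injective_succ (EtCoh.push j) r J).of_iso
    ((EtCoh.Rpush j (r + 1)).mapIso (asIso ((EtCoh.pullPushAdj j).counit.app J)))

variable [QuasiCompact j] [EtCoh.BCCont j]

/-- Depth along a closed subset gives depth at its points. -/
theorem depthAtGE_of_depthGE (F : EtCoh.Ab X) (n : ℕ) (h : EtDepth.DepthGE j F n) (y : X)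
    (hy : y ∉ Set.range j.base) : EtDepth.DepthAtGE X F y n := by
  intro R _ _ _ _ _
  let π := Hens2.specOf X y R
  haveI : WeaklyEtale π := Groth.Agent.S0754.result X y R
  haveI := InjCoh.jCont (pullback.snd j π)
  refine depthGE_mono (pullback.snd j π) (FEt.puncturedSpec R).ι ?_ _ n (depthGE_pull_weaklyEtale j π F n h)
  rintro t ⟨s, rfl⟩
  refine mem_range_punctured _ fun hc => hy ?_
  refine ⟨(pullback.fst j π).base s, ?_⟩
  rw [← Scheme.Hom.comp_apply, pullback.condition, Scheme.Hom.comp_apply, hc]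
  show (X.fromSpecStalk y).base ((Spec.map (CommRingCat.ofHom
    (algebraMap (X.presheaf.stalk y) R))).base (closedPoint R)) = y
  rw [show (Spec.map (CommRingCat.ofHom (algebraMap (X.presheaf.stalk y) R))).base (closedPoint R) =
    closedPoint _ from IsLocalRing.comap_closedPoint _]
  exact Scheme.fromSpecStalk_closedPoint

/-- Depth at all points gives depth along the closed subset. -/
theorem depthGE_of_points : ∀ (n : ℕ) (F : EtCoh.Ab X),
    (∀ y : X, y ∉ Set.range j.base → EtDepth.DepthAtGE X F y n) → EtDepth.DepthGE j F n := by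
  intro n
  induction n with
  | zero => exact fun F _ p hp => absurd hp (Nat.not_lt_zero p)
  | succ n ih =>
    intro F h
    have h1 : EtDepth.DepthGE j F 1 := depthGE_one_of_points j F fun y hy => by
      intro R _ _ _ _ _ p hp
      exact h y hy R p (by omega)
    haveI : Mono ((EtCoh.pullPushAdj j).unit.app F) := ((depthGE_iff j F 1).1 h1).1 le_rfl
    let J := Injective.under ((EtCoh.pull j).obj F)
    let M := (EtCoh.push j).obj J
    haveI : PreservesLimitsOfSize.{0, 0} (EtCoh.push j) := (EtCoh.pullPushAdj j).rightAdjoint_preservesLimits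
    haveI : PreservesFiniteLimits (EtCoh.push j) := PreservesLimitsOfSize.preservesFiniteLimits _
    let ι₀ : F ⟶ M := (EtCoh.pullPushAdj j).unit.app F ≫ (EtCoh.push j).map (Injective.ι _)
    haveI : Mono ι₀ := mono_comp _ _
    let S : ShortComplex (EtCoh.Ab X) := ShortComplex.mk ι₀ (cokernel.π ι₀) (cokernel.condition ι₀)
    have hS : S.ShortExact := { exact := ShortComplex.exact_of_g_is_cokernel _ (cokernelIsCokernel ι₀) }
    have hM : ∀ m, EtDepth.DepthGE j M m := depthGE_push_injective j J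
    have hQ : EtDepth.DepthGE j S.X₃ n := ih _ fun y hy => by
      intro R _ _ _ _ _ p hp
      refine isZero_locCoh_right _ _ (hS.map_of_exact (EtCoh.pull (Hens2.specOf X y R))) p ?_ ?_
      · exact depthAtGE_of_depthGE j M (p + 1) (hM _) y hy R p (Nat.lt_succ_self p)
      · exact h y hy R (p + 1) (by omega)
    intro p hp
    rcases p with _ | p
    · exact h1 0 Nat.one_pos
    · exact isZero_locCoh_left j S hS p (hQ p (by omega)) (hM (p + 2) (p + 1) (by omega))

end Groth.EtDepthLib
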