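import Groth.Agent.EtDepthLib.Mono
import Groth.Agent.EtaleBase.Limit.StrictCriterion
import Groth.Agent.FlatMor2.WeaklyEtaleHens.Main

/-!
# Base change of higher direct images along weakly étale morphisms
-/

set_option autoImplicit false
set_option synthInstance.maxHeartbeats 400000
set_option backward.isDefEq.respectTransparency.types false
set_option maxHeartbeats 1000000

universe u

open CategoryTheory CategoryTheory.Limits CategoryTheory.Abelian AlgebraicGeometry Opposite IsLocalRing
open Groth.EtaleBase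

namespace Groth.EtDepthLib

/-- Relative pullback along an isomorphism is bijective. -/
theorem HpullVia_bijective_of_isIso {X Y Z : Scheme.{u}} (f : X ⟶ Y) [IsIso f] (t : Y ⟶ Z) (f₀ : X ⟶ Z)
    (w : f ≫ t = f₀) [PreservesFiniteLimits (EtCoh.pull f)] (G : EtCoh.Ab Z) (p : ℕ) :
    Function.Bijective (EtCore.HpullVia f t f₀ w G p) :=
  (((EtCoh.HF X p).mapIso
      (((EtCore.pullComp f t).symm ≪≫ EtCore.pullCongr w).app G)).addCommGroupIsoToAddEquiv).bijective.comp
    (Hpull_bijective_of_isIso f _ p)

/-- Strict henselizations are unchanged by weakly étale morphisms. -/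
theorem bijective_of_weaklyEtale {X S : Scheme.{u}} (f : X ⟶ S) [hf : WeaklyEtale f] (x : X)
    (RS : Type u) [CommRing RS] [IsLocalRing RS] [Algebra (S.presheaf.stalk (f.base x)) RS]
    [IsLocalHom (algebraMap (S.presheaf.stalk (f.base x)) RS)]
    [Hensel.IsStrictHenselization (S.presheaf.stalk (f.base x)) RS]
    (RX : Type u) [CommRing RX] [IsLocalRing RX] [Algebra (X.presheaf.stalk x) RX]
    [IsLocalHom (algebraMap (X.presheaf.stalk x) RX)]
    [Hensel.IsStrictHenselization (X.presheaf.stalk x) RX] (ψ : RS →+* RX) [IsLocalHom ψ]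
    (hψ : ψ.comp (algebraMap (S.presheaf.stalk (f.base x)) RS) =
      (algebraMap (X.presheaf.stalk x) RX).comp (f.stalkMap x).hom) : Function.Bijective ψ := by
  let A := S.presheaf.stalk (f.base x)
  let B := X.presheaf.stalk x
  letI : Algebra A B := (f.stalkMap x).hom.toAlgebra
  letI : Algebra A RX := ((algebraMap B RX).comp (f.stalkMap x).hom).toAlgebra
  haveI : IsScalarTower A B RX := IsScalarTower.of_algebraMap_eq fun _ => rfl
  haveI : IsLocalHom (algebraMap A B) := inferInstanceAs (IsLocalHom (f.stalkMap x).hom)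
  haveI : IsLocalHom (algebraMap A RX) :=
    inferInstanceAs (IsLocalHom ((algebraMap B RX).comp (algebraMap A B)))
  haveI : Algebra.WeaklyEtale A B :=
    Groth.FlatMor2.isWeaklyEtaleHom_iff.1 ((Groth.FlatMor2.weaklyEtale_iff_stalkMap f).1 hf x)
  haveI := Groth.FlatMor2.WeaklyEtaleHens.isStrictHenselization_of_weaklyEtale A B RX
  exact EtLimit.bijective_of_strictHenselization A RS RX ψ hψ

/-- Higher direct images commute with weakly étale base change. -/
theorem isIso_bcQ_weaklyEtale {X S Y T : Scheme.{u}} (f : X ⟶ S) [WeaklyEtale f] (g : T ⟶ S)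
    [QuasiCompact g] [QuasiSeparated g] (h : Y ⟶ X) (e : Y ⟶ T) (c : IsPullback e h g f)
    [PreservesFiniteLimits (EtCoh.pull e)] (F : EtCoh.Ab T) (q : ℕ) :
    IsIso (EtBC.bcQ g f h e c.w q F) := by
  refine EtLimit.isIso_bcQ_of_bijective_HpullVia f g h e c F q ?_
  intro x RS _ _ _ _ _ RX _ _ _ _ _ ψ _ hψ PS PX aS bS hS aX bX hX m w hmb _
  have hb := bijective_of_weaklyEtale f x RS RX ψ hψ
  haveI : IsIso (CommRingCat.ofHom ψ) := (RingEquiv.ofBijective ψ hb).toCommRingCatIso.isIso_hom
  let σ := Spec.map (CommRingCat.ofHom ψ)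
  have hν : σ ≫ Hens2.specOf S (f.base x) RS = Hens2.specOf X x RX ≫ f :=
    EtLimit.specOf_compat f x RS RX ψ hψ
  have hw : aS ≫ g = (bS ≫ inv σ) ≫ Hens2.specOf X x RX ≫ f := by
    rw [hS.w, ← hν, Category.assoc, IsIso.inv_hom_id_assoc]
  haveI : IsIso m := by
    refine ⟨hX.lift aS (bS ≫ inv σ) hw, ?_, ?_⟩
    · refine hX.hom_ext ?_ ?_
      · rw [Category.assoc, hX.lift_fst, w, Category.id_comp]
      · rw [Category.assoc, hX.lift_snd, ← Category.assoc, hmb, Category.assoc, IsIso.hom_inv_id,
          Category.comp_id, Category.id_comp]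
    · refine hS.hom_ext ?_ ?_
      · rw [Category.assoc, w, hX.lift_fst, Category.id_comp]
      · rw [Category.assoc, hmb, ← Category.assoc, hX.lift_snd, Category.assoc, IsIso.inv_hom_id,
          Category.comp_id, Category.id_comp]
  exact HpullVia_bijective_of_isIso m aS aX w F q

variable {X U T : Scheme.{u}} (j : U ⟶ X) [IsOpenImmersion j] [QuasiCompact j] (π : T ⟶ X) [WeaklyEtale π]

theorem isIso_baseChange0_weaklyEtale (G : EtCoh.Ab U) :
    IsIso (EtCoh.baseChange0 j π (pullback.snd j π) (pullback.fst j π) pullback.condition G) := by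
  haveI := isIso_bcQ_weaklyEtale π j (pullback.snd j π) (pullback.fst j π) (IsPullback.of_hasPullback j π) G 0
  have : PreservesLimitsOfSize.{0, 0} (EtCoh.push j) := (EtCoh.pullPushAdj j).rightAdjoint_preservesLimits
  have : PreservesFiniteLimits (EtCoh.push j) := PreservesLimitsOfSize.preservesFiniteLimits _
  have : PreservesLimitsOfSize.{0, 0} (EtCoh.push (pullback.snd j π)) :=
    (EtCoh.pullPushAdj (pullback.snd j π)).rightAdjoint_preservesLimits
  have : PreservesFiniteLimits (EtCoh.push (pullback.snd j π)) := PreservesLimitsOfSize.preservesFiniteLimits _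
  haveI : IsIso ((EtCoh.pull π).map ((EtCoh.push j).toRightDerivedZero.app G) ≫
      EtBC.bcQ j π (pullback.snd j π) (pullback.fst j π) pullback.condition 0 G) := inferInstance
  exact IsIso.of_isIso_fac_right
    (EtBC.bcQ_zero_compat j π (pullback.snd j π) (pullback.fst j π) pullback.condition G).symm

/-- Depth is stable under weakly étale base change. -/
theorem depthGE_pull_weaklyEtale [EtCoh.BCCont j] (F : EtCoh.Ab X) (n : ℕ)
    [EtCoh.BCCont (pullback.snd j π)] (h : EtDepth.DepthGE j F n) :
    EtDepth.DepthGE (pullback.snd j π) ((EtCoh.pull π).obj F) n := by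
  rw [depthGE_iff] at h ⊢
  obtain ⟨θ, hθ⟩ := EtCdCriterion.exists_unit_restrict j π F
  haveI := isIso_baseChange0_weaklyEtale j π ((EtCoh.pull j).obj F)
  let u := (EtCoh.pullPushAdj j).unit.app F
  let u' := (EtCoh.pullPushAdj (pullback.snd j π)).unit.app ((EtCoh.pull π).obj F)
  let e := (EtCoh.push (pullback.snd j π)).map θ.hom
  refine ⟨fun hn => ?_, fun hn => ?_, fun q hq hqn => ?_⟩
  · haveI := h.1 hn
    haveI : Mono (u' ≫ e) := by rw [← hθ]; infer_instance
    exact mono_of_mono u' e
  · haveI := h.2.1 hn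
    haveI : IsIso (u' ≫ e) := by rw [← hθ]; infer_instance
    exact IsIso.of_isIso_comp_right u' e
  · haveI := isIso_bcQ_weaklyEtale π j (pullback.snd j π) (pullback.fst j π)
      (IsPullback.of_hasPullback j π) ((EtCoh.pull j).obj F) q
    refine (Functor.map_isZero (EtCoh.pull π) (h.2.2 q hq hqn)).of_iso ?_
    exact ((EtCoh.Rpush (pullback.snd j π) q).mapIso θ) ≪≫ (asIso (EtBC.bcQ j π (pullback.snd j π)
      (pullback.fst j π) pullback.condition q ((EtCoh.pull j).obj F))).symm

end Groth.EtDepthLib
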